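import Groth.Agent.Lib.Chevalley25.ClosureSubgroup
import Groth.Agent.Lib.GrpNeutral20.Smooth
import Groth.Agent.Lib.AbRigid.Maximal
import Mathlib.AlgebraicGeometry.ValuativeCriterion

/-!
# The neutral component of an algebraic group
-/

set_option autoImplicit false
set_option linter.style.haveILetI false
set_option backward.isDefEq.respectTransparency false

universe u

open CategoryTheory CategoryTheory.Limits MonoidalCategory CartesianMonoidalCategory MonObj AlgebraicGeometry
open scoped GrpObj

noncomputable section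

namespace Groth.Agent.Chevalley25

open WeilRes21

variable {k : Type u} [Field k] (G : Over (Spec (CommRingCat.of k))) [GrpObj G]

/-- A connected open subgroup of a smooth group. -/
theorem exists_neutral [Smooth G.hom] [QuasiCompact G.hom] :
    ∃ (G₀ : Over (Spec (CommRingCat.of k))) (_ : GrpObj G₀) (j : G₀ ⟶ G), IsMonHom j ∧ IsOpenImmersion j.left ∧
      IsClosedImmersion j.left ∧ Smooth G₀.hom ∧ QuasiCompact G₀.hom ∧ ConnectedSpace G₀.left := by
  haveI : Smooth ((⊤ : G.left.Opens).ι ≫ G.hom) := inferInstance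
  obtain ⟨hopen, B, _, j, hjm, hjo, hrange, hsm, hqc⟩ :=
    GrpNeutral20.exists_openSubgroup G (⊤ : G.left.Opens) (fun _ => trivial)
  haveI := hjm; haveI := hjo
  haveI : Mono j := Over.mono_of_mono_left j
  haveI : LocallyOfFiniteType G.hom := inferInstance
  have hcl : IsClosed (Set.range j.left) := AbRigid.isClosed_range_of_isOpen j j.left.isOpenEmbedding.isOpen_range
  haveI : IsClosedImmersion j.left := IsClosedImmersion.of_isPreimmersion j.left hcl
  haveI : Subsingleton ↥(𝟙_ (Over (Spec (CommRingCat.of k)))).left :=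
    inferInstanceAs (Subsingleton (PrimeSpectrum k))
  have hns : SGA3x.neutralSet G = connectedComponentIn Set.univ (η[G].left (IsLocalRing.closedPoint k)) := by
    have hpre : ∀ p : ↥(𝟙_ (Over (Spec (CommRingCat.of k)))).left,
        G.hom.base ⁻¹' {(𝟙_ (Over (Spec (CommRingCat.of k)))).hom.base p} = Set.univ :=
      fun p => Set.eq_univ_of_forall fun z => Subsingleton.elim (α := PrimeSpectrum k) _ _
    refine Set.Subset.antisymm (Set.iUnion_subset fun p => ?_) (fun z hz => ?_)
    · rw [hpre p, Subsingleton.elim p (IsLocalRing.closedPoint k)]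
    · refine Set.mem_iUnion.2 ⟨IsLocalRing.closedPoint k, ?_⟩
      rw [hpre]; exact hz
  have hconn : _root_.IsConnected (Set.range j.left) := by
    rw [hrange, hns, connectedComponentIn_univ]; exact isConnected_connectedComponent
  haveI : ConnectedSpace B.left := by
    haveI : Nonempty B.left := ⟨η[B].left (IsLocalRing.closedPoint k)⟩
    haveI : PreconnectedSpace B.left :=
      ⟨j.left.isOpenEmbedding.isInducing.isPreconnected_image.1 (by rw [Set.image_univ]; exact hconn.2)⟩
    exact ⟨inferInstance⟩
  exact ⟨B, inferInstance, j, hjm, hjo, ‹_›, hsm, hqc, inferInstance⟩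

variable [IsAlgClosed k] [LocallyOfFiniteType G.hom]

/-- Every point lies on a translate of an open subgroup. -/
theorem exists_translate {G₀ : Over (Spec (CommRingCat.of k))} [GrpObj G₀] (j : G₀ ⟶ G) [IsMonHom j]
    [IsOpenImmersion j.left] (x : G.left) : ∃ h : specOver k k ⟶ G, x ∈ Set.range (j ≫ tau h).left := by
  haveI : JacobsonSpace G.left := LocallyOfFiniteType.jacobsonSpace (Y := Spec (CommRingCat.of k)) G.hom
  haveI : ∀ h : specOver k k ⟶ G, IsOpenImmersion (j ≫ tau h).left := fun h => by
    rw [Over.comp_left]; infer_instance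
  by_contra hx
  push Not at hx
  have hopen : IsOpen (⋃ h : specOver k k ⟶ G, Set.range (j ≫ tau h).left) :=
    isOpen_iUnion fun h => (j ≫ tau h).left.isOpenEmbedding.isOpen_range
  obtain ⟨y, hy, hyc⟩ := nonempty_inter_closedPoints (Z := (⋃ h : specOver k k ⟶ G, Set.range (j ≫ tau h).left)ᶜ)
    ⟨x, fun hm => by obtain ⟨h, hh⟩ := Set.mem_iUnion.1 hm; exact hx h hh⟩ hopen.isClosed_compl.isLocallyClosed
  obtain ⟨h, rfl⟩ := exists_ptIm hyc
  refine hy (Set.mem_iUnion.2 ⟨h, ptIm (1 : specOver k k ⟶ G₀), ?_⟩)
  rw [← ptIm_comp, ← Category.assoc, MonObj.one_comp, comp_tau, cst_self, _root_.mul_one]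

/-- A group with proper open subgroup is proper. -/
theorem isProper_of_openSubgroup [QuasiCompact G.hom] {G₀ : Over (Spec (CommRingCat.of k))} [GrpObj G₀]
    (j : G₀ ⟶ G) [IsMonHom j] [IsOpenImmersion j.left] [IsProper G₀.hom] : IsProper G.hom := by
  haveI : IsSeparated G.hom := AbRigid.isSeparated_of_grpObj G
  haveI : UniversallyClosed G.hom := by
    rw [UniversallyClosed.eq_valuativeCriterion]
    refine ⟨fun sq => ?_, inferInstance⟩
    obtain ⟨h, hh⟩ := exists_translate G j (sq.i₁ (IsLocalRing.closedPoint sq.K))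
    haveI : IsOpenImmersion (j ≫ tau h).left := by rw [Over.comp_left]; infer_instance
    have hr : Set.range sq.i₁ ⊆ Set.range (j ≫ tau h).left := by
      rintro _ ⟨P, rfl⟩
      haveI : Subsingleton (Spec (CommRingCat.of sq.K)) := inferInstanceAs (Subsingleton (PrimeSpectrum sq.K))
      rw [Subsingleton.elim P (IsLocalRing.closedPoint sq.K)]
      exact hh
    let i₀ := IsOpenImmersion.lift (j ≫ tau h).left sq.i₁ hr
    let sq₀ : ValuativeCommSq G₀.hom :=
      { sq with
        i₁ := i₀
        commSq := ⟨by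
          rw [← Over.w (j ≫ tau h), ← Category.assoc, IsOpenImmersion.lift_fac]
          exact sq.commSq.w⟩ }
    have hv : ValuativeCriterion.Existence G₀.hom := by
      have := (inferInstance : UniversallyClosed G₀.hom)
      rw [UniversallyClosed.eq_valuativeCriterion] at this
      exact this.1
    obtain ⟨⟨l⟩⟩ := hv sq₀
    refine ⟨⟨⟨l.l ≫ (j ≫ tau h).left, ?_, ?_⟩⟩⟩
    · rw [reassoc_of% l.fac_left]
      exact IsOpenImmersion.lift_fac _ _ _
    · rw [Category.assoc, Over.w, l.fac_right]
  exact ⟨⟩

end Groth.Agent.Chevalley25
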