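import Groth.Agent.Lib.Chevalley25.Stab
import Groth.Agent.Lib.Chevalley25.Component
import Groth.Agent.Lib.AbRigid.Connected
import Groth.Agent.Lib.AbRigid.SmoothGI

/-!
# Non-proper algebraic groups contain affine subgroups of positive dimension
-/

set_option autoImplicit false
set_option linter.style.haveILetI false
set_option backward.isDefEq.respectTransparency false

universe u

open CategoryTheory CategoryTheory.Limits MonoidalCategory CartesianMonoidalCategory MonObj AlgebraicGeometry
open scoped GrpObj

noncomputable section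

namespace Groth.Agent.Chevalley25

open WeilRes21

variable {k : Type u} [Field k] [IsAlgClosed k]

theorem exists_affine_subgroup_of_not_isProper (G : Over (Spec (CommRingCat.of k))) [GrpObj G] [Smooth G.hom]
    [QuasiCompact G.hom] (hG : ¬ IsProper G.hom) :
    ∃ (H : Over (Spec (CommRingCat.of k))) (_ : GrpObj H) (j : H ⟶ G), IsMonHom j ∧ IsClosedImmersion j.left ∧
      Smooth H.hom ∧ IsAffine H.left ∧ 0 < topologicalKrullDim ↥H.left := by
  obtain ⟨G₀, _, j, hjm, hjo, hjc, hsm, hqc, hconn⟩ := exists_neutral G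
  haveI := hjm; haveI := hjo; haveI := hjc; haveI := hsm; haveI := hqc; haveI := hconn
  haveI : LocallyOfFiniteType G.hom := inferInstance
  have hG₀ : ¬ IsProper G₀.hom := fun h => hG (isProper_of_openSubgroup G j)
  haveI := AbRigid.geometricallyReduced_of_smooth G₀.hom
  haveI : GeometricallyIntegral G₀.hom := AbRigid.geometricallyIntegral_of_connected G₀
  haveI : AlgebraicGeometry.IsIntegral G₀.left := GeometricallyIntegral.isIntegral_of_subsingleton G₀.hom
  haveI : IsSeparated G₀.hom := AbRigid.isSeparated_of_grpObj G₀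
  obtain ⟨U, hU, hξU, -⟩ := exists_isAffineOpen_mem_and_subset (X := G₀.left) (x := genericPoint G₀.left) (U := ⊤) trivial
  let WU : Over (Spec (CommRingCat.of k)) := Over.mk (U.ι ≫ G₀.hom)
  haveI : IsAffine WU.left := hU
  obtain ⟨R, _, _, ⟨jU⟩⟩ := exists_iso_specOver WU
  obtain ⟨iU, hiU⟩ : ∃ iU : specOver k R ⟶ G₀, iU = jU.inv ≫ Over.homMk U.ι rfl := ⟨_, rfl⟩
  haveI : IsIso jU.inv.left := inferInstanceAs (IsIso ((Over.forget _).map jU.inv))
  haveI : IsOpenImmersion iU.left := by
    rw [hiU]; exact inferInstanceAs (IsOpenImmersion (jU.inv.left ≫ U.ι))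
  haveI : Algebra.FiniteType k R := by
    haveI : LocallyOfFiniteType (specOver k R).hom := by rw [← Over.w iU]; infer_instance
    exact finiteType_of_locallyOfFiniteType (Iso.refl (specOver k R))
  haveI : IsDomain R := by
    haveI : Nonempty (specOver k R).left := ⟨jU.hom.left ⟨genericPoint G₀.left, hξU⟩⟩
    haveI : Nonempty (Spec (CommRingCat.of R)) := ‹Nonempty (specOver k R).left›
    haveI : AlgebraicGeometry.IsIntegral (Spec (CommRingCat.of R)) :=
      isIntegral_of_isOpenImmersion (show Spec (CommRingCat.of R) ⟶ G₀.left from iU.left)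
    exact (affine_isIntegral_iff (CommRingCat.of R)).1 inferInstance
  obtain ⟨Γ, hgrp, i, him, hic, hΓsm, hΓaff, hdim⟩ := exists_affine_subgroup iU hG₀
  haveI := him; haveI := hic
  refine ⟨Γ, hgrp, i ≫ j, inferInstance, ?_, hΓsm, hΓaff, hdim⟩
  rw [Over.comp_left]; infer_instance

end Groth.Agent.Chevalley25
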