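import Groth.Agent.Lib.Chevalley25.Translate
import Groth.Agent.Lib.GrpGen20.Generated
import Groth.Agent.Lib.GrpSmooth19.Basic
import Groth.Agent.Lib.AlgClosedExt25.Geometry
import Mathlib.AlgebraicGeometry.AlgClosed.Basic

/-!
# The closed subgroup carried by a group of rational points
-/

set_option autoImplicit false
set_option linter.style.haveILetI false
set_option backward.isDefEq.respectTransparency false

universe u

open CategoryTheory CategoryTheory.Limits MonoidalCategory CartesianMonoidalCategory MonObj AlgebraicGeometry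
open scoped GrpObj

noncomputable section

namespace Groth.Agent.Chevalley25

open WeilRes21

variable {k : Type u} [Field k] {G : Over (Spec (CommRingCat.of k))}

/-- The underlying point of a rational point. -/
def ptIm (h : specOver k k ⟶ G) : G.left := h.left (IsLocalRing.closedPoint k)

theorem left_apply (h : specOver k k ⟶ G) (z : (specOver k k).left) : h.left z = ptIm h := by
  haveI : Subsingleton (specOver k k).left := inferInstanceAs (Subsingleton (PrimeSpectrum k))
  rw [ptIm, Subsingleton.elim z (IsLocalRing.closedPoint k)]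

theorem ptIm_comp {G' : Over (Spec (CommRingCat.of k))} (h : specOver k k ⟶ G) (f : G ⟶ G') :
    ptIm (h ≫ f) = f.left (ptIm h) := rfl

theorem over_hom_left (h : specOver k k ⟶ G) : h.left ≫ G.hom = 𝟙 (Spec (CommRingCat.of k)) := by
  have := Over.w h
  simp only [Over.mk_hom] at this
  rw [Algebra.algebraMap_self, CommRingCat.ofHom_id, Spec.map_id] at this
  exact this

theorem ptIm_injective [IsAlgClosed k] [LocallyOfFiniteType G.hom] {h h' : specOver k k ⟶ G}
    (e : ptIm h = ptIm h') : h = h' :=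
  Over.OverMorphism.ext (ext_of_apply_closedPoint_eq G.hom (over_hom_left h) (over_hom_left h') e)

theorem exists_ptIm [IsAlgClosed k] [LocallyOfFiniteType G.hom] {x : G.left} (hx : IsClosed ({x} : Set G.left)) :
    ∃ h : specOver k k ⟶ G, ptIm h = x :=
  ⟨Over.homMk (pointOfClosedPoint G.hom x hx) (by
      rw [pointOfClosedPoint_comp]
      show _ = Spec.map (CommRingCat.ofHom (algebraMap k k))
      rw [Algebra.algebraMap_self, CommRingCat.ofHom_id, Spec.map_id]), pointOfClosedPoint_apply G.hom x hx _⟩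

theorem isClosed_ptIm [IsAlgClosed k] [LocallyOfFiniteType G.hom] (h : specOver k k ⟶ G) :
    IsClosed ({ptIm h} : Set G.left) := by
  let p : {p : Spec (CommRingCat.of k) ⟶ G.left // p ≫ G.hom = 𝟙 _} := ⟨h.left, over_hom_left h⟩
  exact ((pointEquivClosedPoint G.hom) p).2

variable [GrpObj G]

/-- The underlying points of a set of rational points. -/
def ptSet (H : Subgroup (specOver k k ⟶ G)) : Set G.left := ptIm '' (H : Set (specOver k k ⟶ G))

theorem mulStable_ptSet (H : Subgroup (specOver k k ⟶ G)) : AbRigid.MulStable (ptSet H) := by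
  rintro q ⟨h₁, hh₁, e₁⟩ ⟨h₂, hh₂, e₂⟩
  have hq : q ∈ Set.range (h₁ ⊗ₘ h₂).left := by
    rw [Over.tensorHom_left]
    erw [Scheme.Pullback.range_map]
    exact ⟨⟨_, e₁⟩, ⟨_, e₂⟩⟩
  obtain ⟨z, rfl⟩ := hq
  refine ⟨h₁ * h₂, H.mul_mem hh₁ hh₂, ?_⟩
  rw [← AbRigid.left_comp_apply]
  have e : (h₁ ⊗ₘ h₂) ≫ μ[G] = toPt _ ≫ (h₁ * h₂) := by
    rw [← lift_fst_comp_snd_comp, ← Hom.mul_def, MonObj.comp_mul]
    congr 1 <;> congr 1 <;> exact toPt_unique _ _
  rw [e, AbRigid.left_comp_apply, left_apply]

theorem exists_closure_subgroup [PerfectField k] [LocallyOfFiniteType G.hom] (H : Subgroup (specOver k k ⟶ G)) :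
    ∃ (Γ : Over (Spec (CommRingCat.of k))) (_ : GrpObj Γ) (i : Γ ⟶ G), IsMonHom i ∧ IsClosedImmersion i.left ∧
      IsReduced Γ.left ∧ Smooth Γ.hom ∧ Set.range i.left = closure (ptSet H) := by
  let I := Scheme.IdealSheafData.vanishingIdeal (TopologicalSpace.Closeds.closure (ptSet H))
  haveI : IsReduced I.subscheme := RedSepLib.isReduced_vanishingIdeal_subscheme _
  let Γ : Over (Spec (CommRingCat.of k)) := Over.mk (I.subschemeι ≫ G.hom)
  let i : Γ ⟶ G := Over.homMk I.subschemeι rfl
  haveI : IsReduced Γ.left := ‹IsReduced I.subscheme›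
  haveI : IsClosedImmersion i.left := inferInstanceAs (IsClosedImmersion I.subschemeι)
  haveI : Mono i := Over.mono_of_mono_left i
  haveI : LocallyOfFiniteType Γ.hom := inferInstanceAs (LocallyOfFiniteType (I.subschemeι ≫ G.hom))
  have hrange : Set.range i.left = closure (ptSet H) := by
    show Set.range I.subschemeι = _
    rw [Scheme.IdealSheafData.range_subschemeι, Scheme.IdealSheafData.coe_support_vanishingIdeal]
    rfl
  have lift' : ∀ {T : Over (Spec (CommRingCat.of k))} [IsReduced T.left] (g : T ⟶ G),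
      Set.range g.left ⊆ closure (ptSet H) → ∃ g' : T ⟶ Γ, g' ≫ i = g := by
    intro T _ g hg
    obtain ⟨l, hl⟩ := RedSepLib.exists_lift_of_range_subset g.left i.left (hrange ▸ hg)
    exact ⟨Over.homMk l (by rw [← Over.w i, reassoc_of% hl, Over.w g]), Over.OverMorphism.ext hl⟩
  haveI : IsReduced (Γ ⊗ Γ).left := by
    haveI : GeometricallyReduced Γ.hom := AlgClosedExt25.geometricallyReduced_of_isReduced Γ.hom
    haveI := GrpGen20.geometricallyReduced_tensorObj Γ Γ
    exact GrpGen20.isReduced_of_geomReduced (Γ ⊗ Γ).hom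
  haveI : IsReduced (𝟙_ (Over (Spec (CommRingCat.of k)))).left :=
    inferInstanceAs (IsReduced (Spec (CommRingCat.of k)))
  obtain ⟨m, hm⟩ := lift' ((i ⊗ₘ i) ≫ μ[G]) (by
    rintro _ ⟨z, rfl⟩
    rw [AbRigid.left_comp_apply]
    refine GrpGen20.mulStable_closure (mulStable_ptSet H) _ ?_ ?_
    · rw [← AbRigid.left_comp_apply, tensorHom_fst, AbRigid.left_comp_apply]; exact hrange ▸ ⟨_, rfl⟩
    · rw [← AbRigid.left_comp_apply, tensorHom_snd, AbRigid.left_comp_apply]; exact hrange ▸ ⟨_, rfl⟩)
  obtain ⟨e, he⟩ := lift' η[G] (by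
    rintro _ ⟨z, rfl⟩
    refine subset_closure ⟨1, H.one_mem, ?_⟩
    show ((toUnit (specOver k k)) ≫ η[G]).left _ = _
    haveI : Subsingleton (𝟙_ (Over (Spec (CommRingCat.of k)))).left := inferInstanceAs (Subsingleton (PrimeSpectrum k))
    rw [AbRigid.left_comp_apply]
    congr 1
    exact Subsingleton.elim _ _)
  obtain ⟨v, hv⟩ := lift' (i ≫ ι[G]) (by
    rintro _ ⟨z, rfl⟩
    rw [AbRigid.left_comp_apply]
    refine map_mem_closure ι[G].left.continuous (hrange.le ⟨z, rfl⟩) ?_
    rintro _ ⟨h, hh, rfl⟩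
    exact ⟨h⁻¹, H.inv_mem hh, by rw [Hom.inv_def]; rfl⟩)
  letI := AbRigid.grpObjOfMono i e he m hm v hv
  exact ⟨Γ, inferInstance, i, ⟨he, hm⟩, inferInstance, inferInstance, GrpSmooth19.smooth_of_isReduced Γ, hrange⟩

end Groth.Agent.Chevalley25
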