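import Groth.Agent.Lib.Chevalley25.StabData
import Mathlib.RingTheory.Filtration
import Mathlib.RingTheory.Nilpotent.Basic
import Mathlib.RingTheory.Localization.Away.Basic

/-!
# Jets of rational functions at a rational point of the model
-/

set_option autoImplicit false
set_option linter.style.haveILetI false
set_option backward.isDefEq.respectTransparency false
set_option synthInstance.maxHeartbeats 400000

universe u

open TensorProduct

noncomputable section

namespace Groth.Agent.Chevalley25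

variable {k : Type u} [Field k] {L : Type u} [Field L] [Algebra k L] {B : Subalgebra k L}

/-- The ring of jets of order `i` at a rational point. -/
abbrev Jet (d : B →ₐ[k] k) (i : ℕ) : Type u := B ⧸ (RingHom.ker d.toRingHom) ^ i

/-- The projection to jets. -/
abbrev jmk (d : B →ₐ[k] k) (i : ℕ) : B →+* Jet d i := Ideal.Quotient.mk _

theorem isUnit_of_isNilpotent_sub {A : Type u} [CommRing A] {y u : A} (h : IsNilpotent (y - u)) (hu : IsUnit u) :
    IsUnit y := by
  have := h.isUnit_add_left_of_commute hu (Commute.all _ _)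
  rwa [add_sub_cancel] at this

theorem isNilpotent_add' {A : Type u} [CommRing A] {y u : A} (h : IsNilpotent y) (hu : IsNilpotent u) :
    IsNilpotent (y + u) := (Commute.all y u).isNilpotent_add h hu

theorem isNilpotent_mk (d : B →ₐ[k] k) (i : ℕ) {z : B} (hz : d z = 0) :
    IsNilpotent (Ideal.Quotient.mk ((RingHom.ker d.toRingHom) ^ i) z) :=
  ⟨i, by
    rw [← map_pow]
    exact Ideal.Quotient.eq_zero_iff_mem.2 (Ideal.pow_mem_pow hz i)⟩

theorem isNilpotent_sub (d : B →ₐ[k] k) (i : ℕ) (b : B) :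
    IsNilpotent (Ideal.Quotient.mk ((RingHom.ker d.toRingHom) ^ i) b - algebraMap k (Jet d i) (d b)) := by
  rw [IsScalarTower.algebraMap_apply k B (Jet d i), Ideal.Quotient.algebraMap_eq, ← map_sub]
  exact isNilpotent_mk d i (by simp)

theorem isUnit_mk (d : B →ₐ[k] k) (i : ℕ) {c : B} (hc : d c ≠ 0) :
    IsUnit (Ideal.Quotient.mk ((RingHom.ker d.toRingHom) ^ i) c) := by
  have h := (isNilpotent_sub d i c).isUnit_add_left_of_commute ((IsUnit.mk0 _ hc).map (algebraMap k (Jet d i)))
    (Commute.all _ _)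
  rwa [add_sub_cancel] at h

/-- The jet of a rational function defined at the point. -/
def ResI (d : B →ₐ[k] k) (i : ℕ) (l : L) (q : Jet d i) : Prop :=
  ∃ a c : B, d c ≠ 0 ∧ l * c = a ∧
    Ideal.Quotient.mk ((RingHom.ker d.toRingHom) ^ i) a = q * Ideal.Quotient.mk ((RingHom.ker d.toRingHom) ^ i) c

theorem ResI.unique {d : B →ₐ[k] k} {i : ℕ} {l : L} {q q' : Jet d i} (h : ResI d i l q) (h' : ResI d i l q') :
    q = q' := by
  obtain ⟨a, c, hc, e, ea⟩ := h
  obtain ⟨a', c', hc', e', ea'⟩ := h'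
  have h1 : a * c' = a' * c := Subtype.ext (by push_cast; rw [← e, ← e']; ring)
  have h2 := congrArg (Ideal.Quotient.mk ((RingHom.ker d.toRingHom) ^ i)) h1
  rw [map_mul, map_mul, ea, ea'] at h2
  refine ((isUnit_mk d i hc).mul (isUnit_mk d i hc')).mul_right_cancel ?_
  linear_combination h2

theorem exists_resI {d : B →ₐ[k] k} {l : L} {x : k} (h : Res d l x) (i : ℕ) : ∃ q, ResI d i l q := by
  obtain ⟨a, c, hc, e, -⟩ := h
  obtain ⟨u, hu⟩ := isUnit_mk d i hc
  exact ⟨jmk d i a * ↑u⁻¹, a, c, hc, e, by rw [← hu, mul_assoc, Units.inv_mul, mul_one]⟩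

theorem eq_of_resI [Algebra.FiniteType k B] {d : B →ₐ[k] k} {l l' : L} {x x' : k} (h : Res d l x) (h' : Res d l' x')
    (hq : ∀ i, ∃ q, ResI d i l q ∧ ResI d i l' q) : l = l' := by
  haveI : IsNoetherianRing B := Algebra.FiniteType.isNoetherianRing k B
  obtain ⟨a, c, hc, e, -⟩ := h
  obtain ⟨a', c', hc', e', -⟩ := h'
  have hker : RingHom.ker d.toRingHom ≠ ⊤ := RingHom.ker_ne_top _
  have hz : a * c' - a' * c ∈ ⨅ i, (RingHom.ker d.toRingHom) ^ i := by
    rw [Ideal.mem_iInf]
    intro i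
    obtain ⟨q, h1, h2⟩ := hq i
    obtain ⟨u, hu⟩ := isUnit_mk d i hc
    obtain ⟨u', hu'⟩ := isUnit_mk d i hc'
    have e1 : q = jmk d i a * ↑u⁻¹ :=
      h1.unique ⟨a, c, hc, e, by rw [← hu, mul_assoc, Units.inv_mul, mul_one]⟩
    have e2 : q = jmk d i a' * ↑u'⁻¹ :=
      h2.unique ⟨a', c', hc', e', by rw [← hu', mul_assoc, Units.inv_mul, mul_one]⟩
    rw [← Ideal.Quotient.eq_zero_iff_mem, map_sub, map_mul, map_mul, ← hu, ← hu', sub_eq_zero]
    have h3 : Ideal.Quotient.mk ((RingHom.ker d.toRingHom) ^ i) a * ↑u⁻¹ =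
        Ideal.Quotient.mk ((RingHom.ker d.toRingHom) ^ i) a' * ↑u'⁻¹ := e1.symm.trans e2
    calc jmk d i a * ↑u' = jmk d i a * ↑u⁻¹ * ↑u * ↑u' := by
          rw [mul_assoc _ (↑u⁻¹ : Jet d i), Units.inv_mul, mul_one]
      _ = jmk d i a' * (↑u'⁻¹ * ↑u') * ↑u := by rw [h3]; ring
      _ = jmk d i a' * ↑u := by rw [Units.inv_mul, mul_one]
  rw [Ideal.iInf_pow_eq_bot_of_isDomain _ hker, Ideal.mem_bot, sub_eq_zero] at hz
  have h1 : (a : L) * c' = a' * c := by exact_mod_cast congrArg Subtype.val hz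
  rw [← e, ← e'] at h1
  exact mul_right_cancel₀ (mul_ne_zero (coe_ne_zero hc) (coe_ne_zero hc')) (by linear_combination h1)

variable {R : Type u} [CommRing R] [Algebra k R]

/-- A family of jets which is a quotient of regular families is regular. -/
theorem exists_regular_jet (d : B →ₐ[k] k) (i : ℕ) (num den : B ⊗[k] R) (t : R) (ℓ : Jet d i →ₗ[k] k) :
    ∃ f : Localization.Away (t * theta d den), ∀ g' : Localization.Away (t * theta d den) →ₐ[k] k, ∀ g : R →ₐ[k] k,
      g'.comp (IsScalarTower.toAlgHom k R (Localization.Away (t * theta d den))) = g →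
      ∃ q : Jet d i, jmk d i (spB B g num) = q * jmk d i (spB B g den) ∧ g' f = ℓ q := by
  let S := Localization.Away (t * theta d den)
  let Ψ : B ⊗[k] R →ₐ[k] Jet d i ⊗[k] S :=
    Algebra.TensorProduct.map (Ideal.Quotient.mkₐ k _) (IsScalarTower.toAlgHom k R S)
  have hnil : ∀ y : B ⊗[k] R, IsNilpotent (Ψ y - 1 ⊗ₜ[k] algebraMap R S (theta d y)) := fun y => by
    induction y using TensorProduct.induction_on with
    | zero => simp
    | tmul b r =>
      have e : Ψ (b ⊗ₜ r) - 1 ⊗ₜ[k] algebraMap R S (theta d (b ⊗ₜ r)) =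
          (jmk d i b - algebraMap k (Jet d i) (d b)) ⊗ₜ[k] algebraMap R S r := by
        show _ ⊗ₜ[k] algebraMap R S r - 1 ⊗ₜ[k] algebraMap R S (algebraMap k R (d b) * r) = _
        rw [TensorProduct.sub_tmul, map_mul, ← IsScalarTower.algebraMap_apply, ← Algebra.smul_def,
          TensorProduct.tmul_smul, TensorProduct.smul_tmul', ← Algebra.algebraMap_eq_smul_one]
        rfl
      rw [e]
      obtain ⟨m, hm⟩ := isNilpotent_sub d i b
      exact ⟨m, by rw [Algebra.TensorProduct.tmul_pow, hm, TensorProduct.zero_tmul]⟩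
    | add a b ha hb =>
      rw [map_add, map_add, map_add, TensorProduct.tmul_add, add_sub_add_comm]
      exact isNilpotent_add' (A := Jet d i ⊗[k] S) ha hb
  have hu : IsUnit (Ψ den) := by
    have h0 : IsUnit (algebraMap R S (t * theta d den)) := IsLocalization.Away.algebraMap_isUnit _
    rw [map_mul] at h0
    have h1 : IsUnit (1 ⊗ₜ[k] algebraMap R S (theta d den) : Jet d i ⊗[k] S) :=
      (isUnit_of_mul_isUnit_right h0).map (Algebra.TensorProduct.includeRight : S →ₐ[k] Jet d i ⊗[k] S)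
    exact isUnit_of_isNilpotent_sub (A := Jet d i ⊗[k] S) (hnil den) h1
  obtain ⟨u, hu⟩ := hu
  let y : Jet d i ⊗[k] S := Ψ num * ↑u⁻¹
  refine ⟨TensorProduct.lid k S (LinearMap.rTensor S ℓ y), fun g' g hg => ?_⟩
  let evq : Jet d i ⊗[k] S →ₐ[k] Jet d i :=
    Algebra.TensorProduct.lift (AlgHom.id k _) ((Algebra.ofId k _).comp g') (fun _ _ => Commute.all _ _)
  have hev : ∀ z : B ⊗[k] R, evq (Ψ z) = jmk d i (spB B g z) := fun z => by
    induction z using TensorProduct.induction_on with
    | zero => simp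
    | tmul b r =>
      show jmk d i b * algebraMap k _ (g' (algebraMap R S r)) =
        jmk d i (algebraMap B B b * algebraMap k B (g r))
      rw [map_mul, ← hg, IsScalarTower.algebraMap_apply k B (Jet d i), Ideal.Quotient.algebraMap_eq]
      rfl
    | add a b ha hb => simp [ha, hb]
  have hl : ∀ z : Jet d i ⊗[k] S, g' (TensorProduct.lid k S (LinearMap.rTensor S ℓ z)) = ℓ (evq z) := fun z => by
    induction z using TensorProduct.induction_on with
    | zero => simp
    | tmul q s =>
      show g' (ℓ q • s) = ℓ (q * algebraMap k _ (g' s))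
      rw [map_smul, ← Algebra.commutes, ← Algebra.smul_def, map_smul, smul_eq_mul, smul_eq_mul, mul_comm]
    | add a b ha hb => simp [ha, hb]
  refine ⟨evq y, ?_, hl y⟩
  rw [← hev, ← hev, ← map_mul, ← hu, mul_assoc, Units.inv_mul, mul_one]

end Groth.Agent.Chevalley25
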