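import Groth.Agent.Lib.GeomIrr18.Alg
import Groth.Agent.Lib.FlatH4.GenFreeRed
import Mathlib.RingTheory.Flat.FaithfullyFlat.Algebra
import Mathlib.RingTheory.Localization.FractionRing
import Mathlib.RingTheory.Spectrum.Prime.Noetherian
import Mathlib.RingTheory.AlgebraicIndependent.TranscendenceBasis
import Mathlib.RingTheory.AlgebraicIndependent.Transcendental
import Mathlib.RingTheory.FinitePresentation
import Mathlib.FieldTheory.IsAlgClosed.Basic

/-!
# A map dropping the dimension has an infinite fibre over a rational point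
-/

set_option autoImplicit false
set_option linter.style.haveILetI false

universe u

open Polynomial

noncomputable section

namespace Groth.Agent.Chevalley25

variable {k : Type u} [Field k] [IsAlgClosed k]

/-- A finitely generated algebra with a prime over a rational point has a rational point over it. -/
theorem exists_point_of_ne_top {S : Type u} [CommRing S] [Algebra k S] [Algebra.FiniteType k S] (I : Ideal S)
    (hI : I ≠ ⊤) : ∃ g : S →ₐ[k] k, ∀ x ∈ I, g x = 0 := by
  obtain ⟨m, hm, hle⟩ := I.exists_le_maximal hI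
  haveI := hm
  letI := Ideal.Quotient.field m
  haveI : Algebra.FiniteType k (S ⧸ m) :=
    Algebra.FiniteType.of_surjective (Ideal.Quotient.mkₐ k m) Ideal.Quotient.mk_surjective
  haveI : Module.Finite k (S ⧸ m) := finite_of_finite_type_of_isJacobsonRing k (S ⧸ m)
  let e : k ≃ₐ[k] S ⧸ m := AlgEquiv.ofBijective (Algebra.ofId k (S ⧸ m))
    IsAlgClosed.algebraMap_bijective_of_isIntegral
  refine ⟨e.symm.toAlgHom.comp (Ideal.Quotient.mkₐ k m), fun x hx => ?_⟩
  show e.symm (Ideal.Quotient.mk m x) = 0
  rw [Ideal.Quotient.eq_zero_iff_mem.2 (hle hx), map_zero]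

/-- The extension of rational points along a map. -/
theorem exists_infinite_fibre {A S : Type u} [CommRing A] [Algebra k A] [Algebra.FiniteType k A]
    [CommRing S] [IsDomain S] [Algebra k S] [Algebra.FiniteType k S] (ψ : A →ₐ[k] S)
    (h : Algebra.trdeg k ψ.range < Algebra.trdeg k S) :
    ∃ d : A →ₐ[k] k, {g : S →ₐ[k] k | g.comp ψ = d}.Infinite := by
  classical
  let A' := ψ.range
  haveI : Algebra.FiniteType k A' :=
    Algebra.FiniteType.of_surjective ψ.rangeRestrict ψ.rangeRestrict_surjective
  obtain ⟨y, hy⟩ : ∃ y : S, Transcendental A' y := by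
    by_contra! hall
    haveI : Algebra.IsAlgebraic A' S := ⟨fun z => not_not.1 (hall z)⟩
    rw [← trdeg_add_eq k A' (A := S), trdeg_eq_zero (R := A') (A := S), add_zero] at h
    exact lt_irrefl _ h
  let θ : A'[X] →ₐ[k] S := (Polynomial.aeval y).restrictScalars k
  have hθ : Function.Injective θ := transcendental_iff_injective.1 hy
  letI : Algebra A'[X] S := θ.toRingHom.toAlgebra
  haveI : IsScalarTower k A'[X] S := IsScalarTower.of_algHom θ
  haveI : Algebra.FiniteType A'[X] S := Algebra.FiniteType.of_restrictScalars_finiteType k A'[X] S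
  obtain ⟨q, hq, hsub⟩ : ∃ q : A'[X], q ≠ 0 ∧
      (PrimeSpectrum.basicOpen q : Set (PrimeSpectrum A'[X])) ⊆ Set.range (PrimeSpectrum.comap θ.toRingHom) := by
    obtain ⟨f, hf, -, hfree⟩ :=
      FlatH4.exists_free_and_finitePresentation_of_isReduced (R := A'[X]) (S := S) (one_ne_zero (α := A'[X]))
    let R' := Localization.Away f
    haveI : Module.Free R' (TensorProduct A'[X] R' S) := (hfree R' (IsLocalization.Away.algebraMap_isUnit f)).1
    haveI : Nontrivial (TensorProduct A'[X] R' S) := by
      have hu : IsUnit (algebraMap A'[X] (FractionRing S) f) :=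
        IsUnit.mk0 _ (by
          rw [IsScalarTower.algebraMap_apply A'[X] S (FractionRing S)]
          exact fun h0 => hf (hθ ((IsFractionRing.injective S (FractionRing S))
            (h0.trans (map_zero _).symm) |>.trans (map_zero _).symm)))
      let χ : TensorProduct A'[X] R' S →ₐ[A'[X]] FractionRing S := Algebra.TensorProduct.lift
        (IsLocalization.liftAlgHom (M := Submonoid.powers f) (f := Algebra.ofId A'[X] (FractionRing S))
          (fun z => by
            obtain ⟨n, hn⟩ := z.2
            rw [← hn, map_pow]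
            exact hu.pow n))
        (IsScalarTower.toAlgHom A'[X] S (FractionRing S)) (fun _ _ => Commute.all _ _)
      exact χ.toRingHom.domain_nontrivial
    refine ⟨f, hf, fun P hP => ?_⟩
    have hdis : Disjoint (Submonoid.powers f : Set A'[X]) (P.asIdeal : Set A'[X]) := by
      rw [Set.disjoint_left]
      rintro _ ⟨n, rfl⟩ h0
      exact hP (P.isPrime.mem_of_pow_mem n h0)
    haveI hq' : (P.asIdeal.map (algebraMap A'[X] R')).IsPrime :=
      IsLocalization.isPrime_of_isPrime_disjoint (Submonoid.powers f) R' P.asIdeal P.isPrime hdis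
    obtain ⟨P', hP'⟩ := PrimeSpectrum.comap_surjective_of_faithfullyFlat (A := R')
      (B := TensorProduct A'[X] R' S) ⟨P.asIdeal.map (algebraMap A'[X] R'), hq'⟩
    let incl : S →ₐ[A'[X]] TensorProduct A'[X] R' S := Algebra.TensorProduct.includeRight
    refine ⟨PrimeSpectrum.comap incl.toRingHom P', PrimeSpectrum.ext ?_⟩
    show (P'.asIdeal.comap incl.toRingHom).comap (algebraMap A'[X] S) = P.asIdeal
    rw [Ideal.comap_comap, show incl.toRingHom.comp (algebraMap A'[X] S) = algebraMap A'[X] _ from incl.comp_algebraMap,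
      IsScalarTower.algebraMap_eq A'[X] R' (TensorProduct A'[X] R' S),
      ← Ideal.comap_comap, show P'.asIdeal.comap (algebraMap R' (TensorProduct A'[X] R' S)) =
        P.asIdeal.map (algebraMap A'[X] R') from congrArg PrimeSpectrum.asIdeal hP']
    exact IsLocalization.under_map_of_isPrime_disjoint (Submonoid.powers f) R' P.isPrime hdis
  obtain ⟨j, hj⟩ : ∃ j, q.coeff j ≠ 0 := by
    by_contra! hall
    exact hq (Polynomial.ext fun j => by simpa using hall j)
  obtain ⟨φ, hφ⟩ : ∃ φ : A' →ₐ[k] k, φ (q.coeff j) ≠ 0 := by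
    by_contra! hall
    exact hj (GeomIrr.eq_zero_of_forall_algHom hall)
  have hq' : q.map φ.toRingHom ≠ 0 := fun h0 => hφ (by
    have := congrArg (fun p : k[X] => p.coeff j) h0
    simpa using this)
  let good : Set k := {c | (q.map φ.toRingHom).eval c ≠ 0}
  have hgood : good.Infinite := by
    have hroots : {c : k | (q.map φ.toRingHom).eval c = 0}.Finite := Polynomial.finite_setOfPred_isRoot hq'
    exact hroots.infinite_compl
  have key : ∀ c ∈ good, ∃ g : S →ₐ[k] k, g.comp ψ = φ.comp ψ.rangeRestrict ∧ g y = c := by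
    intro c hc'
    let Φ : A'[X] →+* k := Polynomial.eval₂RingHom φ.toRingHom c
    have hker : (⟨RingHom.ker Φ, RingHom.ker_isPrime _⟩ : PrimeSpectrum A'[X]) ∈ PrimeSpectrum.basicOpen q :=
      fun hmem => hc' (by
        show (q.map φ.toRingHom).eval c = 0
        rw [Polynomial.eval_map]
        exact hmem)
    obtain ⟨p', hp'⟩ := hsub hker
    obtain ⟨g, hg⟩ := exists_point_of_ne_top (k := k) p'.asIdeal p'.isPrime.ne_top
    have hle : ∀ z : A'[X], Φ z = 0 → g (θ z) = 0 := fun z hz => hg _ (by
      have : z ∈ (PrimeSpectrum.comap θ.toRingHom p').asIdeal := by rw [hp']; exact hz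
      exact this)
    have hC : ∀ a : A', g (a : S) = φ a := fun a => by
      have h0 := hle (C a - C (algebraMap k A' (φ a))) (by simp [Φ])
      rw [map_sub, map_sub, sub_eq_zero] at h0
      have e : ∀ b : A', θ (C b) = (b : S) := fun b => by simp [θ]
      rw [e, e] at h0
      rw [h0]
      exact g.commutes _
    refine ⟨g, AlgHom.ext fun a => hC (ψ.rangeRestrict a), ?_⟩
    have h0 := hle (X - C (algebraMap k A' c)) (by simp [Φ])
    rw [map_sub, map_sub, sub_eq_zero] at h0
    have e : θ X = y := by simp [θ]
    have e' : θ (C (algebraMap k A' c)) = algebraMap k S c := by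
      simp [θ]
    rw [e, e', g.commutes] at h0
    exact h0
  choose g hg1 hg2 using key
  refine ⟨φ.comp ψ.rangeRestrict, ?_⟩
  haveI := hgood.to_subtype
  refine Set.infinite_of_injective_forall_mem (f := fun c : good => g c.1 c.2) (fun c c' hcc => ?_) fun c => hg1 _ _
  exact Subtype.ext ((hg2 _ c.2).symm.trans ((AlgHom.congr_fun hcc y).trans (hg2 _ c'.2)))

end Groth.Agent.Chevalley25
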