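import Groth.Agent.Lib.GeomIrr18.Alg
import Mathlib.RingTheory.Valuation.ValuationSubring
import Mathlib.RingTheory.Localization.FractionRing
import Mathlib.LinearAlgebra.Basis.VectorSpace
import Mathlib.Order.Filter.Tendsto

/-!
# Evaluation at generic rational points and the generic value of a valuation

For a finitely generated domain `R` over an algebraically closed field `k` and an extension field
`L`, elements of `Frac (L ⊗ R)` are evaluated at generic rational points of `R`; a valuation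
subring of `L` then gives one of `Frac (L ⊗ R)`.
-/

set_option autoImplicit false
set_option linter.style.haveILetI false
set_option synthInstance.maxHeartbeats 400000

universe u

open TensorProduct Filter
open scoped nonZeroDivisors

noncomputable section

namespace Groth.Agent.Chevalley25

variable (k : Type u) [Field k] (R : Type u) [CommRing R] [IsDomain R] [Algebra k R]

/-- The filter of generic rational points. -/
def Gen : Filter (R →ₐ[k] k) where
  sets := {S | ∃ r : R, r ≠ 0 ∧ ∀ g : R →ₐ[k] k, g r ≠ 0 → g ∈ S}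
  univ_sets := ⟨1, one_ne_zero, fun _ _ => trivial⟩
  sets_of_superset := fun ⟨r, hr, h⟩ hST => ⟨r, hr, fun g hg => hST (h g hg)⟩
  inter_sets := fun ⟨r, hr, h⟩ ⟨r', hr', h'⟩ => ⟨r * r', mul_ne_zero hr hr', fun g hg => by
    rw [map_mul] at hg
    exact ⟨h g (left_ne_zero_of_mul hg), h' g (right_ne_zero_of_mul hg)⟩⟩

variable {k R}

theorem eventually_gen_iff {p : (R →ₐ[k] k) → Prop} :
    (∀ᶠ g in Gen k R, p g) ↔ ∃ r : R, r ≠ 0 ∧ ∀ g : R →ₐ[k] k, g r ≠ 0 → p g := Iff.rfl

theorem eventually_ne {r : R} (hr : r ≠ 0) : ∀ᶠ g in Gen k R, g r ≠ 0 :=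
  eventually_gen_iff.2 ⟨r, hr, fun _ hg => hg⟩

variable [IsAlgClosed k] [Algebra.FiniteType k R]

instance : NeBot (Gen k R) := by
  refine ⟨fun h => ?_⟩
  obtain ⟨r, hr, hg⟩ : (∅ : Set (R →ₐ[k] k)) ∈ Gen k R := h ▸ Filter.mem_bot
  exact hr (GeomIrr.eq_zero_of_forall_algHom fun g => by_contra fun hne => hg g hne)

variable {L : Type u} [Field L] [Algebra k L]

instance isDomain_base : IsDomain (L ⊗[k] R) := GeomIrr.isDomain_tensor L R

section Sp

omit [IsDomain R] [IsAlgClosed k] [Algebra.FiniteType k R]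

/-- Specialisation at a rational point. -/
def sp (g : R →ₐ[k] k) : L ⊗[k] R →ₐ[L] L :=
  Algebra.TensorProduct.lift (Algebra.ofId L L) ((Algebra.ofId k L).comp g) (fun _ _ => Commute.all _ _)

@[simp]
theorem sp_tmul (g : R →ₐ[k] k) (l : L) (r : R) : sp g (l ⊗ₜ[k] r) = l * algebraMap k L (g r) := rfl

theorem sp_one_tmul (g : R →ₐ[k] k) (r : R) : sp (L := L) g (1 ⊗ₜ r) = algebraMap k L (g r) := by simp

end Sp

omit [IsAlgClosed k] [Algebra.FiniteType k R] in
/-- A functional on the residue field which is one at one. -/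
theorem exists_functional (V : ValuationSubring L) (hk : ∀ c, algebraMap k L c ∈ V) :
    ∃ φ : V → k, (∀ x y, φ (x + y) = φ x + φ y) ∧ (∀ c x, φ (⟨algebraMap k L c, hk c⟩ * x) = c * φ x) ∧
      φ 1 = 1 ∧ ∀ x : V, φ x ≠ 0 → IsUnit x := by
  letI : Algebra k V := ((algebraMap k L).codRestrict V.toSubring hk).toAlgebra
  let κ := IsLocalRing.ResidueField V
  letI : Algebra k κ := ((IsLocalRing.residue V).comp (algebraMap k V)).toAlgebra
  obtain ⟨φ, hφ⟩ := LinearMap.exists_leftInverse_of_injective (Algebra.linearMap k κ)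
    (LinearMap.ker_eq_bot.2 (algebraMap k κ).injective)
  refine ⟨fun x => φ (IsLocalRing.residue V x), fun x y => by simp, fun c x => ?_, ?_, fun x hx => ?_⟩
  · show φ (IsLocalRing.residue V (algebraMap k V c * x)) = _
    rw [map_mul]
    show φ (algebraMap k κ c * _) = _
    rw [← Algebra.smul_def, map_smul, smul_eq_mul]
  · have := LinearMap.congr_fun hφ 1
    simpa using this
  · exact IsLocalRing.notMem_maximalIdeal.1 fun h => hx (by
      show φ (IsLocalRing.residue V x) = 0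
      rw [(IsLocalRing.residue_eq_zero_iff x).2 h, map_zero])

/-- A nonzero tensor is a scalar times one which specialises to units at generic points. -/
theorem exists_coeff (V : ValuationSubring L) (hk : ∀ c, algebraMap k L c ∈ V) {x : L ⊗[k] R} (hx : x ≠ 0) :
    ∃ (c : L) (x₀ : L ⊗[k] R), c ≠ 0 ∧ x = c • x₀ ∧
      (∀ S : Submodule k (L ⊗[k] R), (∀ (v : L) (r : R), v ∈ V → v ⊗ₜ r ∈ S) → x₀ ∈ S) ∧
      ∀ᶠ g in Gen k R, ∃ h : sp g x₀ ∈ V, IsUnit (⟨sp g x₀, h⟩ : V) := by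
  classical
  obtain ⟨φ, hadd, hmul, hone, hunit⟩ := exists_functional V hk
  let b := Module.Free.chooseBasis k R
  let bL := Algebra.TensorProduct.basis L b
  let s := (bL.repr x).support
  have hs : s.Nonempty := Finsupp.support_nonempty_iff.2 (by simpa using hx)
  obtain ⟨j₀, hj₀, hmax⟩ := s.exists_max_image (fun j => V.valuation (bL.repr x j)) hs
  set c := bL.repr x j₀ with hc
  have hc0 : c ≠ 0 := Finsupp.mem_support_iff.1 hj₀
  have hv : ∀ j ∈ s, bL.repr x j / c ∈ V := fun j hj => by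
    rw [← V.valuation_le_one_iff, map_div₀]
    exact div_le_one_of_le₀ (hmax j hj) zero_le
  let x₀ : L ⊗[k] R := ∑ j ∈ s, (bL.repr x j / c) ⊗ₜ b j
  refine ⟨c, x₀, hc0, ?_, fun S hS => Submodule.sum_mem S fun j hj => hS _ _ (hv j hj), ?_⟩
  · conv_lhs => rw [← bL.linearCombination_repr x, Finsupp.linearCombination_apply, Finsupp.sum]
    rw [Finset.smul_sum]
    refine Finset.sum_congr rfl fun j _ => ?_
    rw [Algebra.TensorProduct.basis_apply, TensorProduct.smul_tmul', TensorProduct.smul_tmul',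
      smul_eq_mul, smul_eq_mul, mul_div_cancel₀ _ hc0, _root_.mul_one]
  · let v : {j // j ∈ s} → V := fun j => ⟨_, hv j.1 j.2⟩
    let r : R := ∑ j ∈ s.attach, φ (v j) • b j
    have hr : r ≠ 0 := fun h => by
      have hli := b.linearIndependent
      have hli' := (hli.comp _ Subtype.val_injective : LinearIndependent k (fun j : {j // j ∈ s} => b j))
      have := linearIndependent_iff'.1 hli' s.attach (fun j => φ (v j)) h ⟨j₀, hj₀⟩ (Finset.mem_attach _ _)
      rw [show v ⟨j₀, hj₀⟩ = 1 from Subtype.ext (div_self hc0), hone] at this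
      exact one_ne_zero this
    refine (eventually_ne hr).mono fun g hg => ?_
    have he : sp g x₀ = ((∑ j ∈ s.attach, v j * ⟨algebraMap k L (g (b j)), hk _⟩ : V) : L) := by
      simp only [x₀, map_sum, sp_tmul, AddSubmonoidClass.coe_finsetSum, MulMemClass.coe_mul, v]
      exact (Finset.sum_attach s fun j => bL.repr x j / c * algebraMap k L (g (b j))).symm
    refine ⟨he ▸ SetLike.coe_mem _, hunit _ ?_⟩
    rw [show (⟨sp g x₀, _⟩ : V) = ∑ j ∈ s.attach, v j * ⟨algebraMap k L (g (b j)), hk _⟩ from Subtype.ext he]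
    intro h0
    apply hg
    rw [← h0]
    let φ' : V →+ k := AddMonoidHom.mk' φ hadd
    show g r = φ' _
    rw [map_sum]
    simp only [r, map_sum, map_smul, smul_eq_mul]
    refine Finset.sum_congr rfl fun j _ => ?_
    show _ = φ (v j * _)
    rw [_root_.mul_comm (v j), hmul, _root_.mul_comm]

theorem eventually_sp_ne {x : L ⊗[k] R} (hx : x ≠ 0) : ∀ᶠ g in Gen k R, sp g x ≠ 0 := by
  obtain ⟨c, x₀, hc, rfl, -, h⟩ := exists_coeff (⊤ : ValuationSubring L) (fun _ => trivial) hx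
  refine h.mono fun g ⟨hm, hu⟩ => ?_
  rw [map_smul, smul_eq_mul]
  exact mul_ne_zero hc fun h0 => hu.ne_zero (Subtype.ext h0)

/-! ### Evaluation of fractions -/

variable {F : Type u} [Field F] [Algebra (L ⊗[k] R) F] [IsFractionRing (L ⊗[k] R) F]
  [Algebra L F] [IsScalarTower L (L ⊗[k] R) F]

omit [Algebra.FiniteType k R] [IsFractionRing (L ⊗[k] R) F] [IsDomain R] [IsAlgClosed k]
  [Algebra L F] [IsScalarTower L (L ⊗[k] R) F] in
theorem sp_cross {g : R →ₐ[k] k} {f : F} (hinj : Function.Injective (algebraMap (L ⊗[k] R) F))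
    {a s a' s' : L ⊗[k] R}
    (e : f * algebraMap _ F s = algebraMap _ F a) (e' : f * algebraMap _ F s' = algebraMap _ F a') :
    sp g a * sp g s' = sp g a' * sp g s := by
  rw [← map_mul, ← map_mul]
  congr 1
  apply hinj
  rw [map_mul, map_mul, ← e, ← e']
  ring

/-- The local ring of the generic fibre at a rational point. -/
def locAt (g : R →ₐ[k] k) : Subalgebra L F where
  carrier := {f | ∃ a s : L ⊗[k] R, sp g s ≠ 0 ∧ f * algebraMap _ F s = algebraMap _ F a}
  mul_mem' := fun ⟨a, s, hs, e⟩ ⟨a', s', hs', e'⟩ => ⟨a * a', s * s', by simp [hs, hs'], by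
    rw [map_mul, map_mul, ← e, ← e']; ring⟩
  add_mem' := fun ⟨a, s, hs, e⟩ ⟨a', s', hs', e'⟩ => ⟨a * s' + a' * s, s * s', by simp [hs, hs'], by
    rw [map_mul, map_add, map_mul, map_mul, ← e, ← e']; ring⟩
  algebraMap_mem' := fun l => ⟨algebraMap L _ l, 1, by simp, by
    rw [map_one, _root_.mul_one, ← IsScalarTower.algebraMap_apply]⟩

omit [Algebra.FiniteType k R] [IsDomain R] [IsAlgClosed k] [IsFractionRing (L ⊗[k] R) F] in
theorem mem_locAt {g : R →ₐ[k] k} {f : F} :
    f ∈ locAt (L := L) g ↔ ∃ a s : L ⊗[k] R, sp g s ≠ 0 ∧ f * algebraMap _ F s = algebraMap _ F a := Iff.rfl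

/-- The value of a fraction at a rational point where it is defined. -/
def evFun (g : R →ₐ[k] k) (f : locAt (L := L) (F := F) g) : L :=
  sp g f.2.choose / sp g f.2.choose_spec.choose

theorem evFun_eq {g : R →ₐ[k] k} (f : locAt (L := L) (F := F) g) {a s : L ⊗[k] R} (hs : sp g s ≠ 0)
    (e : (f : F) * algebraMap _ F s = algebraMap _ F a) : evFun g f = sp g a / sp g s := by
  have h := f.2.choose_spec.choose_spec
  rw [evFun, div_eq_div_iff h.1 hs]
  exact sp_cross (IsFractionRing.injective _ F) h.2 e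

/-- Evaluation at a rational point. -/
def ev (g : R →ₐ[k] k) : locAt (L := L) (F := F) g →ₐ[L] L where
  toFun := evFun g
  map_one' := by rw [evFun_eq 1 (a := 1) (s := 1) (by simp) (by simp)]; simp
  map_zero' := by rw [evFun_eq 0 (a := 0) (s := 1) (by simp) (by simp)]; simp
  map_mul' := fun f f' => by
    obtain ⟨a, s, hs, e⟩ := f.2
    obtain ⟨a', s', hs', e'⟩ := f'.2
    rw [evFun_eq f hs e, evFun_eq f' hs' e', evFun_eq (f * f') (a := a * a') (s := s * s') (by simp [hs, hs'])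
      (by rw [MulMemClass.coe_mul, map_mul, map_mul, ← e, ← e']; ring)]
    simp [div_mul_div_comm]
  map_add' := fun f f' => by
    obtain ⟨a, s, hs, e⟩ := f.2
    obtain ⟨a', s', hs', e'⟩ := f'.2
    rw [evFun_eq f hs e, evFun_eq f' hs' e', evFun_eq (f + f') (a := a * s' + a' * s) (s := s * s')
      (by simp [hs, hs']) (by rw [AddMemClass.coe_add, map_mul, map_add, map_mul, map_mul, ← e, ← e']; ring)]
    simp only [map_add, map_mul]
    field_simp
  commutes' := fun l => by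
    rw [evFun_eq _ (a := algebraMap L _ l) (s := 1) (by simp) (by
      rw [map_one, _root_.mul_one, ← IsScalarTower.algebraMap_apply]; rfl)]
    simp

theorem ev_eq {g : R →ₐ[k] k} (f : locAt (L := L) (F := F) g) {a s : L ⊗[k] R} (hs : sp g s ≠ 0)
    (e : (f : F) * algebraMap _ F s = algebraMap _ F a) : ev g f = sp g a / sp g s := evFun_eq f hs e

omit [IsAlgClosed k] [IsDomain R] [Algebra.FiniteType k R] [IsFractionRing (L ⊗[k] R) F] in
theorem algebraMap_mem_locAt (g : R →ₐ[k] k) (a : L ⊗[k] R) : algebraMap _ F a ∈ locAt (L := L) g :=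
  ⟨a, 1, by simp, by simp⟩

theorem ev_algebraMap (g : R →ₐ[k] k) (a : L ⊗[k] R) :
    ev g ⟨algebraMap _ F a, algebraMap_mem_locAt g a⟩ = sp g a := by
  rw [ev_eq _ (a := a) (s := 1) (by simp) (by simp)]; simp

theorem inv_mem_locAt {g : R →ₐ[k] k} (f : locAt (L := L) (F := F) g) (h : ev g f ≠ 0) :
    ∃ hi : (f : F)⁻¹ ∈ locAt (L := L) g, ev g ⟨_, hi⟩ = (ev g f)⁻¹ := by
  obtain ⟨a, s, hs, e⟩ := f.2
  have ha : sp g a ≠ 0 := fun h0 => h (by rw [ev_eq f hs e, h0, zero_div])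
  have hf : (f : F) ≠ 0 := fun h0 => h (by rw [show f = 0 from Subtype.ext h0, map_zero])
  have e' : (f : F)⁻¹ * algebraMap _ F a = algebraMap _ F s := by
    rw [← e, ← _root_.mul_assoc, inv_mul_cancel₀ hf, _root_.one_mul]
  exact ⟨⟨s, a, ha, e'⟩, by rw [ev_eq _ ha e', ev_eq f hs e, inv_div]⟩

theorem exists_rep (f : F) : ∃ a s : L ⊗[k] R, s ≠ 0 ∧ f * algebraMap _ F s = algebraMap _ F a := by
  obtain ⟨⟨a, s⟩, e⟩ := IsLocalization.surj (L ⊗[k] R)⁰ f
  exact ⟨a, s, nonZeroDivisors.ne_zero s.2, e⟩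

theorem eventually_mem (f : F) : ∀ᶠ g in Gen k R, f ∈ locAt (L := L) g := by
  obtain ⟨a, s, hs, e⟩ := exists_rep (k := k) (R := R) (L := L) f
  exact (eventually_sp_ne hs).mono fun g hg => ⟨a, s, hg, e⟩

theorem eventually_ev_ne {f : F} (hf : f ≠ 0) :
    ∀ᶠ g in Gen k R, ∀ h : f ∈ locAt (L := L) g, ev g ⟨f, h⟩ ≠ 0 := by
  obtain ⟨a, s, hs, e⟩ := exists_rep (k := k) (R := R) (L := L) f
  have ha : a ≠ 0 := fun h => by
    rw [h, map_zero, mul_eq_zero] at e
    exact e.elim hf fun h0 => hs (IsFractionRing.injective _ F (h0.trans (map_zero _).symm))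
  filter_upwards [eventually_sp_ne hs, eventually_sp_ne ha] with g hg hga h
  rw [ev_eq _ hg e]
  exact div_ne_zero hga hg

omit [Algebra k L] [IsAlgClosed k] [IsDomain R] [Algebra.FiniteType k R] in
theorem inv_mem_of_isUnit {V : ValuationSubring L} {x : L} (h : x ∈ V) (hu : IsUnit (⟨x, h⟩ : V)) :
    x ≠ 0 ∧ x⁻¹ ∈ V := by
  obtain ⟨w, hw⟩ := hu
  have hwv : ((↑w⁻¹ : V) : L) * x = 1 := by
    have := congrArg (fun z : V => (z : L)) w.inv_mul
    simpa [hw] using this
  refine ⟨right_ne_zero_of_mul (hwv.trans_ne one_ne_zero), ?_⟩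
  rw [← eq_inv_of_mul_eq_one_left hwv]
  exact SetLike.coe_mem _

/-- Being integral at generic rational points. -/
def GVal (V : ValuationSubring L) (f : F) : Prop :=
  ∀ᶠ g in Gen k R, ∃ h : f ∈ locAt (L := L) g, ev g ⟨f, h⟩ ∈ V

theorem gVal_algebraMap {V : ValuationSubring L} {l : L} (h : l ∈ V) :
    GVal (k := k) (R := R) V (algebraMap L F l) :=
  Filter.Eventually.of_forall fun g => ⟨(locAt (L := L) g).algebraMap_mem l, by
    rw [show (⟨_, (locAt (L := L) g).algebraMap_mem l⟩ : locAt (L := L) (F := F) g) = algebraMap L _ l from rfl,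
      AlgHom.commutes]
    exact h⟩

theorem gVal_add {V : ValuationSubring L} {a b : F} (ha : GVal (k := k) (R := R) V a)
    (hb : GVal (k := k) (R := R) V b) : GVal (k := k) (R := R) V (a + b) :=
  (ha.and hb).mono fun g ⟨⟨h, hv⟩, h', hv'⟩ => ⟨add_mem h h', by
    rw [show (⟨a + b, add_mem h h'⟩ : locAt (L := L) (F := F) g) = ⟨a, h⟩ + ⟨b, h'⟩ from rfl, map_add]
    exact V.add_mem _ _ hv hv'⟩

theorem gVal_mul {V : ValuationSubring L} {a b : F} (ha : GVal (k := k) (R := R) V a)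
    (hb : GVal (k := k) (R := R) V b) : GVal (k := k) (R := R) V (a * b) :=
  (ha.and hb).mono fun g ⟨⟨h, hv⟩, h', hv'⟩ => ⟨mul_mem h h', by
    rw [show (⟨a * b, mul_mem h h'⟩ : locAt (L := L) (F := F) g) = ⟨a, h⟩ * ⟨b, h'⟩ from rfl, map_mul]
    exact V.mul_mem _ _ hv hv'⟩

theorem gVal_or_inv (V : ValuationSubring L) (hk : ∀ c, algebraMap k L c ∈ V) (f : F) :
    GVal (k := k) (R := R) V f ∨ GVal (k := k) (R := R) V f⁻¹ := by
  by_cases hf : f = 0
  · left
    rw [hf, ← map_zero (algebraMap L F)]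
    exact gVal_algebraMap V.zero_mem
  obtain ⟨a, s, hs, e⟩ := exists_rep (k := k) (R := R) (L := L) f
  have ha : a ≠ 0 := fun h => by
    rw [h, map_zero, mul_eq_zero] at e
    exact e.elim hf fun h0 => hs (IsFractionRing.injective _ F (h0.trans (map_zero _).symm))
  have e' : f⁻¹ * algebraMap _ F a = algebraMap _ F s := by
    rw [← e, ← _root_.mul_assoc, inv_mul_cancel₀ hf, _root_.one_mul]
  obtain ⟨c, a₀, hc, rfl, -, hu⟩ := exists_coeff V hk ha
  obtain ⟨d, s₀, hd, rfl, -, hu'⟩ := exists_coeff V hk hs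
  rcases V.mem_or_inv_mem (c / d) with h | h
  · left
    refine (hu.and (hu'.and (eventually_sp_ne hs))).mono fun g ⟨⟨m₁, u₁⟩, ⟨m₂, u₂⟩, hg⟩ => ⟨⟨_, _, hg, e⟩, ?_⟩
    rw [ev_eq _ hg e, map_smul, map_smul, smul_eq_mul, smul_eq_mul, mul_div_mul_comm]
    exact V.mul_mem _ _ h (div_eq_mul_inv (sp g a₀) _ ▸ V.mul_mem _ _ m₁ (inv_mem_of_isUnit m₂ u₂).2)
  · right
    refine (hu.and (hu'.and (eventually_sp_ne ha))).mono fun g ⟨⟨m₁, u₁⟩, ⟨m₂, u₂⟩, hg⟩ => ⟨⟨_, _, hg, e'⟩, ?_⟩
    rw [ev_eq _ hg e', map_smul, map_smul, smul_eq_mul, smul_eq_mul, mul_div_mul_comm]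
    rw [inv_div] at h
    exact V.mul_mem _ _ h (div_eq_mul_inv (sp g s₀) _ ▸ V.mul_mem _ _ m₂ (inv_mem_of_isUnit m₁ u₁).2)

/-- The generic value of a valuation subring. -/
def gauss (V : ValuationSubring L) (hk : ∀ c, algebraMap k L c ∈ V) : ValuationSubring F where
  carrier := {f | GVal (k := k) (R := R) V f}
  zero_mem' := by
    show GVal (k := k) (R := R) V (0 : F)
    rw [← map_zero (algebraMap L F)]
    exact gVal_algebraMap V.zero_mem
  one_mem' := by
    show GVal (k := k) (R := R) V (1 : F)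
    rw [← map_one (algebraMap L F)]
    exact gVal_algebraMap V.one_mem
  add_mem' := gVal_add
  mul_mem' := gVal_mul
  neg_mem' := fun {f} ha => by
    show GVal (k := k) (R := R) V (-f)
    rw [show -f = algebraMap L F (-1) * f by rw [map_neg, map_one, neg_one_mul]]
    exact gVal_mul (gVal_algebraMap (V.neg_mem _ V.one_mem)) ha
  mem_or_inv_mem' := gVal_or_inv V hk

theorem mem_gauss {V : ValuationSubring L} {hk : ∀ c, algebraMap k L c ∈ V} {f : F} :
    f ∈ gauss (R := R) V hk ↔ ∀ᶠ g in Gen k R, ∃ h : f ∈ locAt (L := L) g, ev g ⟨f, h⟩ ∈ V := Iff.rfl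

theorem mem_gauss_iff_forall {V : ValuationSubring L} {hk : ∀ c, algebraMap k L c ∈ V} {f : F} :
    f ∈ gauss (R := R) V hk ↔ ∀ᶠ g in Gen k R, ∀ h : f ∈ locAt (L := L) g, ev g ⟨f, h⟩ ∈ V := by
  rw [mem_gauss]
  exact ⟨fun h => h.mono fun g ⟨_, h'⟩ _ => h',
    fun h => (h.and (eventually_mem f)).mono fun g ⟨h', hm⟩ => ⟨hm, h' hm⟩⟩

/-- An element of the generic value ring is a quotient of integral tensors with generically unit denominator. -/
theorem exists_rep_of_mem_gauss {V : ValuationSubring L} {hk : ∀ c, algebraMap k L c ∈ V} {f : F}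
    (hf : f ∈ gauss (R := R) V hk) (S : Submodule k (L ⊗[k] R))
    (hS : ∀ (v : L) (r : R), v ∈ V → v ⊗ₜ r ∈ S) :
    ∃ a s : L ⊗[k] R, a ∈ S ∧ s ∈ S ∧ f * algebraMap _ F s = algebraMap _ F a ∧
      ∀ᶠ g in Gen k R, ∃ h : sp g s ∈ V, IsUnit (⟨sp g s, h⟩ : V) := by
  obtain ⟨a, s, hs, e⟩ := exists_rep (k := k) (R := R) (L := L) f
  obtain ⟨d, s₀, hd, rfl, hsS, hu'⟩ := exists_coeff V hk hs
  have e0 : f * algebraMap _ F s₀ = algebraMap _ F (d⁻¹ • a) := by
    rw [Algebra.smul_def, map_mul] at e ⊢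
    rw [← e, ← IsScalarTower.algebraMap_apply, ← IsScalarTower.algebraMap_apply, map_inv₀]
    have : algebraMap L F d ≠ 0 := (map_ne_zero (algebraMap L F)).2 hd
    field_simp
  by_cases ha : a = 0
  · exact ⟨_, s₀, by rw [ha, smul_zero]; exact S.zero_mem, hsS S hS, e0, hu'⟩
  obtain ⟨c, a₀, hc, hac, haS, hu⟩ := exists_coeff V hk ha
  have hcd : c / d ∈ V := by
    obtain ⟨g, ⟨hm, hv⟩, ⟨m₁, u₁⟩, ⟨m₂, u₂⟩⟩ := ((mem_gauss.1 hf).and (hu.and hu')).exists
    obtain ⟨hs0, hsi⟩ := inv_mem_of_isUnit m₂ u₂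
    obtain ⟨ha0, hai⟩ := inv_mem_of_isUnit m₁ u₁
    rw [ev_eq _ hs0 e0, hac, smul_smul, map_smul, smul_eq_mul] at hv
    convert V.mul_mem _ _ (V.mul_mem _ _ hv m₂) hai using 1
    field_simp
  refine ⟨d⁻¹ • a, s₀, ?_, hsS S hS, e0, hu'⟩
  rw [hac, smul_smul, ← div_eq_inv_mul]
  refine haS (S.comap ((LinearMap.lsmul L (L ⊗[k] R) (c / d)).restrictScalars k)) fun v r hv => ?_
  show (c / d) • (v ⊗ₜ[k] r) ∈ S
  rw [TensorProduct.smul_tmul', smul_eq_mul]
  exact hS _ _ (V.mul_mem _ _ hcd hv)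

end Groth.Agent.Chevalley25
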