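import Groth.Agent.Lib.Chevalley25.Residual
import Groth.Agent.Lib.VarDim.Alg
import Groth.Agent.Lib.IntClosFin.Main
import Mathlib.RingTheory.Ideal.KrullsHeightTheorem
import Mathlib.RingTheory.DiscreteValuationRing.TFAE
import Mathlib.RingTheory.Localization.AsSubring
import Mathlib.FieldTheory.IntermediateField.Adjoin.Algebra
import Mathlib.RingTheory.Spectrum.Prime.Chevalley
import Mathlib.RingTheory.Valuation.LocalSubring

/-!
# Divisorial valuations of function fields and their models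
-/

set_option autoImplicit false
set_option linter.style.haveILetI false
set_option synthInstance.maxHeartbeats 400000

universe u

open MvPolynomial
open scoped nonZeroDivisors

noncomputable section

namespace Groth.Agent.Chevalley25

variable {k : Type u} [Field k] {L : Type u} [Field L] [Algebra k L]

/-- A normal affine model inside a valuation subring. -/
theorem exists_normal_model (V : ValuationSubring L) (hk : ∀ c, algebraMap k L c ∈ V) (s : Set L) (hs : s.Finite)
    (hsV : ∀ x ∈ s, x ∈ V) (hgen : IntermediateField.adjoin k s = ⊤) :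
    ∃ B : Subalgebra k L, s ⊆ B ∧ (∀ x ∈ B, x ∈ V) ∧ Algebra.FiniteType k B ∧ IsFractionRing B L ∧
      IsIntegrallyClosed B := by
  let A := Algebra.adjoin k s
  haveI : Algebra.FiniteType k A := Algebra.FiniteType.adjoin_of_finite hs
  haveI : IsFractionRing A L := IsFractionRing.of_field A L fun x => by
    obtain ⟨a, ha, b, hb, e⟩ := IntermediateField.mem_adjoin_iff_div.1 (hgen.symm ▸ IntermediateField.mem_top (x := x))
    exact ⟨⟨a, ha⟩, ⟨b, hb⟩, e⟩
  haveI : Module.Finite A (integralClosure A L) := IntClosFin.finite_integralClosure k A L L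
  haveI : Algebra.FiniteType k (integralClosure A L) :=
    (inferInstance : Algebra.FiniteType k A).trans (inferInstance : Algebra.FiniteType A (integralClosure A L))
  let B : Subalgebra k L := (integralClosure A L).restrictScalars k
  haveI : IsFractionRing B L := inferInstanceAs (IsFractionRing (integralClosure A L) L)
  have hAV : ∀ x ∈ A, x ∈ V := fun x hx =>
    Algebra.adjoin_induction (fun y hy => hsV y hy) (fun c => hk c) (fun _ _ _ _ => V.add_mem _ _)
      (fun _ _ _ _ => V.mul_mem _ _) hx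
  refine ⟨B, fun x hx => ?_, fun x hx => ?_, ‹Algebra.FiniteType k (integralClosure A L)›, inferInstance, ?_⟩
  · exact isIntegral_algebraMap (x := (⟨x, Algebra.subset_adjoin hx⟩ : A))
  · obtain ⟨p, hp, hpx⟩ := (show IsIntegral A x from hx)
    let θ : A →+* V := A.val.toRingHom.codRestrict V.toSubring fun y => hAV _ y.2
    have hint : IsIntegral V x := ⟨p.map θ, hp.map θ, by
      rw [Polynomial.eval₂_map]
      exact hpx⟩
    obtain ⟨y, hy⟩ := IsIntegrallyClosed.algebraMap_eq_of_integral hint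
    rw [← hy]
    exact y.2
  · haveI : IsFractionRing (integralClosure A L) L := inferInstance
    exact (isIntegrallyClosed_iff_isIntegrallyClosedIn (R := integralClosure A L) L).2 inferInstance

/-- The localisation of a normal model at a prime of height one is a valuation ring. -/
theorem mem_or_inv_mem_of_height_one (B : Subalgebra k L) [Algebra.FiniteType k B] [IsFractionRing B L]
    [IsIntegrallyClosed B] (P : Ideal B) [P.IsPrime] (hP : P.height = 1) (x : L) :
    (∃ a b : B, b ∉ P ∧ x * b = a) ∨ ∃ a b : B, b ∉ P ∧ x⁻¹ * b = a := by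
  haveI : IsNoetherianRing B := Algebra.FiniteType.isNoetherianRing k B
  have hS : P.primeCompl ≤ B⁰ := fun b hb => mem_nonZeroDivisors_of_ne_zero fun h => hb (h ▸ P.zero_mem)
  let T := Localization.subalgebra.ofField L P.primeCompl hS
  haveI : IsLocalization P.primeCompl T := Localization.subalgebra.isLocalization_ofField L _ hS
  haveI : IsLocalRing T := IsLocalization.AtPrime.isLocalRing T P
  haveI : IsNoetherianRing T := IsLocalization.isNoetherianRing P.primeCompl T inferInstance
  haveI : IsIntegrallyClosed T := isIntegrallyClosed_of_isLocalization T P.primeCompl hS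
  have hdim : ringKrullDim T = 1 := by rw [IsLocalization.AtPrime.ringKrullDim_eq_height P T, hP]; rfl
  haveI : ValuationRing T := by
    have key : (IsIntegrallyClosed T ∧ ∀ Q : Ideal T, Q ≠ ⊥ → Q.IsPrime → Q = IsLocalRing.maximalIdeal T) ↔
        ValuationRing T := (tfae_of_isNoetherianRing_of_isLocalRing_of_isDomain T).out 3 1
    refine key.mp ⟨inferInstance, fun Q hQ hQp => ?_⟩
    haveI := hQp
    by_contra hne
    have hlt : Q < IsLocalRing.maximalIdeal T := lt_of_le_of_ne (IsLocalRing.le_maximalIdeal hQp.ne_top) hne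
    have hm := IsLocalRing.maximalIdeal_height_eq_ringKrullDim (R := T)
    rw [hdim] at hm
    have hm' : (IsLocalRing.maximalIdeal T).height = 1 := WithBot.coe_injective hm
    have h := Ideal.height_add_one_le_of_lt_of_isPrime hlt
    rw [hm'] at h
    refine hQ (Ideal.height_eq_zero_iff_eq_bot.1 ?_)
    exact nonpos_iff_eq_zero.1 ((WithTop.add_le_add_iff_right (z := (1 : ℕ∞)) ENat.one_ne_top).1 (h.trans_eq (zero_add 1).symm))
  haveI : IsFractionRing T L := Localization.subalgebra.isFractionRing_ofField L _ hS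
  rcases ValuationRing.isInteger_or_isInteger T x with ⟨⟨y, hy⟩, rfl⟩ | ⟨⟨y, hy⟩, e⟩
  · left
    obtain ⟨a, b, hb, e'⟩ := hy
    refine ⟨a, b, hb, ?_⟩
    show y * (b : L) = a
    rw [e']
    exact inv_mul_cancel_right₀ (fun h => hb (by rw [show b = 0 from Subtype.ext h]; exact P.zero_mem)) (a : L)
  · right
    obtain ⟨a, b, hb, e'⟩ := hy
    refine ⟨a, b, hb, ?_⟩
    rw [← e]
    show y * (b : L) = a
    rw [e']
    exact inv_mul_cancel_right₀ (fun h => hb (by rw [show b = 0 from Subtype.ext h]; exact P.zero_mem)) (a : L)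

theorem coheight_add_one {A : Type u} [CommRing A] [IsDomain A] [Algebra k A] [Algebra.FiniteType k A]
    (P : Ideal A) [P.IsPrime] (hP : P.height = 1) : VarDim.tdeg k (A ⧸ P) + 1 = VarDim.tdeg k A := by
  have h := VarDim.height_add_coheight_nat k A ⟨P, inferInstance⟩
  rw [← PrimeSpectrum.height_eq_orderHeight, hP, VarDim.coheight_eq_tdeg k A] at h
  have h' : 1 + VarDim.tdeg k (A ⧸ P) = VarDim.tdeg k A := by exact_mod_cast h
  omega

/-- From a valuation avoiding finitely many elements, a divisorial one avoiding them. -/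
theorem exists_divisorial {n : ℕ} (hn : Algebra.trdeg k L = n) (V₀ : ValuationSubring L)
    (hk : ∀ c, algebraMap k L c ∈ V₀) (y : Set L) (hy : y.Finite) (hgen : IntermediateField.adjoin k y = ⊤)
    (T : Finset L) (hT : T.Nonempty) (hTV : ∀ t ∈ T, t ∉ V₀) :
    ∃ (V : ValuationSubring L), (∀ c, algebraMap k L c ∈ V) ∧ (∀ t ∈ T, t ∉ V) ∧
      ∃ u : Fin (n - 1) → L, ResIndep (k := k) V u := by
  classical
  have hT0 : ∀ t ∈ T, t ≠ 0 := fun t ht h => hTV t ht (h ▸ V₀.zero_mem)
  obtain ⟨t₀, ht₀, hmax⟩ := T.exists_max_image (fun t => V₀.valuation t⁻¹) hT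
  let g : L → L := fun z => if z ∈ V₀ then z else z⁻¹
  let s : Set L := g '' y ∪ (insert t₀⁻¹ ((fun t => t⁻¹ * t₀) '' (T : Set L)))
  have hs : s.Finite := (hy.image g).union ((T.finite_toSet.image _).insert _)
  have hgenS : IntermediateField.adjoin k s = ⊤ := by
    refine top_le_iff.1 (hgen ▸ IntermediateField.adjoin_le_iff.2 fun z hz => ?_)
    have h : g z ∈ IntermediateField.adjoin k s := IntermediateField.subset_adjoin k s (Or.inl ⟨z, hz, rfl⟩)
    by_cases hzV : z ∈ V₀
    · simpa [g, hzV] using h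
    · simpa [g, hzV] using h
  have hsV : ∀ x ∈ s, x ∈ V₀ := by
    rintro x (⟨z, -, rfl⟩ | rfl | ⟨t, ht, rfl⟩)
    · by_cases hzV : z ∈ V₀
      · simp [g, hzV]
      · simpa [g, hzV] using (V₀.mem_or_inv_mem z).resolve_left hzV
    · exact (V₀.mem_or_inv_mem t₀).resolve_left (hTV t₀ ht₀)
    · rw [← V₀.valuation_le_one_iff, map_mul]
      calc V₀.valuation t⁻¹ * V₀.valuation t₀ ≤ V₀.valuation t₀⁻¹ * V₀.valuation t₀ :=
            mul_le_mul_left (hmax t ht) _
        _ = 1 := by rw [← map_mul, inv_mul_cancel₀ (hT0 t₀ ht₀), map_one]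
  obtain ⟨B, hsB, hBV, hft, hfr, hic⟩ := exists_normal_model V₀ hk s hs hsV hgenS
  haveI := hft; haveI := hfr; haveI := hic
  haveI : IsNoetherianRing B := Algebra.FiniteType.isNoetherianRing k B
  let x : B := ⟨t₀⁻¹, hsB (Or.inr (Or.inl rfl))⟩
  have hx : ¬IsUnit x := fun h => by
    obtain ⟨w, hw⟩ := h.exists_left_inv
    have h' : (w : L) * t₀⁻¹ = 1 := congrArg Subtype.val hw
    exact hTV t₀ ht₀ (by rw [← eq_of_mul_inv_eq_one h']; exact hBV _ w.2)
  obtain ⟨m, hm, hxm⟩ := exists_max_ideal_of_mem_nonunits hx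
  haveI := hm
  obtain ⟨q, hq, -⟩ := Ideal.exists_minimalPrimes_le (I := Ideal.span {x}) (J := m)
    ((Ideal.span_singleton_le_iff_mem _).2 hxm)
  haveI : q.IsPrime := hq.isPrime
  have hxq : x ∈ q := (Ideal.span_singleton_le_iff_mem _).1 hq.1.2
  have hq1 : q.height = 1 := by
    refine le_antisymm (Ideal.height_le_one_of_isPrincipal_of_mem_minimalPrimes _ q hq) ?_
    rw [Order.one_le_iff_ne_zero, Ne, Ideal.height_eq_zero_iff_eq_bot]
    intro h
    rw [h, Ideal.mem_bot] at hxq
    exact inv_ne_zero (hT0 t₀ ht₀) (congrArg Subtype.val hxq)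
  have hne : ∀ {b : B}, b ∉ q → (b : L) ≠ 0 := fun {b} hb h =>
    hb (by rw [show b = 0 from Subtype.ext h]; exact q.zero_mem)
  let V : ValuationSubring L :=
    { carrier := {z | ∃ a b : B, b ∉ q ∧ z * b = a}
      zero_mem' := ⟨0, 1, fun h => q.ne_top_iff_one.1 (Ideal.IsPrime.ne_top inferInstance) h, by simp⟩
      one_mem' := ⟨1, 1, fun h => q.ne_top_iff_one.1 (Ideal.IsPrime.ne_top inferInstance) h, by simp⟩
      neg_mem' := fun ⟨a, b, hb, e⟩ => ⟨-a, b, hb, by simp [← e]⟩
      add_mem' := fun ⟨a, b, hb, e⟩ ⟨a', b', hb', e'⟩ => ⟨a * b' + a' * b, b * b', Ideal.IsPrime.mul_notMem inferInstance hb hb',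
        by push_cast; rw [← e, ← e']; ring⟩
      mul_mem' := fun ⟨a, b, hb, e⟩ ⟨a', b', hb', e'⟩ => ⟨a * a', b * b', Ideal.IsPrime.mul_notMem inferInstance hb hb',
        by push_cast; rw [← e, ← e']; ring⟩
      mem_or_inv_mem' := mem_or_inv_mem_of_height_one B q hq1 }
  have hBV' : ∀ b : B, (b : L) ∈ V := fun b =>
    ⟨b, 1, fun h => q.ne_top_iff_one.1 (Ideal.IsPrime.ne_top inferInstance) h, by simp⟩
  refine ⟨V, fun c => hBV' (algebraMap k B c), fun t ht htV => ?_, ?_⟩
  · obtain ⟨a, b, hb, e⟩ := htV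
    have hz : t⁻¹ * t₀ ∈ B := hsB (Or.inr (Or.inr ⟨t, ht, rfl⟩))
    apply hb
    have eb : b = a * ⟨_, hz⟩ * x := Subtype.ext (by
      show (b : L) = (a : L) * (t⁻¹ * t₀) * t₀⁻¹
      rw [← e]
      have := hT0 t ht; have := hT0 t₀ ht₀
      field_simp)
    rw [eb]
    exact Ideal.mul_mem_left _ _ hxq
  · have hB : VarDim.tdeg k B = n := by
      rw [VarDim.tdeg, ← trdeg_fractionRing (k := k) (A := B) (E := L), hn, Cardinal.toNat_natCast]
    have hQ : VarDim.tdeg k (B ⧸ q) + 1 = n := hB ▸ coheight_add_one q hq1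
    obtain ⟨sb, hsb⟩ := exists_isTranscendenceBasis k (B ⧸ q)
    have hcard : Cardinal.mk sb = ((n - 1 : ℕ) : Cardinal) := by
      rw [hsb.cardinalMk_eq_trdeg, VarDim.trdeg_eq_tdeg k (B ⧸ q)]; congr 1; omega
    obtain ⟨e⟩ : Nonempty (ULift.{u} (Fin (n - 1)) ≃ sb) := by
      rw [← Cardinal.eq, hcard]; simp
    choose w hw using fun i : Fin (n - 1) => Ideal.Quotient.mk_surjective ((e ⟨i⟩ : sb) : B ⧸ q)
    refine ⟨fun i => (w i : L), fun i => hBV' _, fun p hp => ?_⟩
    have hpq : aeval w p ∉ q := fun h => by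
      have h' : Ideal.Quotient.mkₐ k q (aeval w p) = 0 := Ideal.Quotient.eq_zero_iff_mem.2 h
      rw [comp_aeval_apply] at h'
      refine hp (algebraicIndependent_iff.1 (hsb.1.comp (fun i : Fin (n - 1) => e ⟨i⟩)
        fun a b hab => by simpa using congrArg ULift.down (e.injective hab)) p ?_)
      have e' : (Subtype.val ∘ fun i : Fin (n - 1) => e ⟨i⟩) = fun i => Ideal.Quotient.mkₐ k q (w i) :=
        funext fun i => (hw i).symm
      show aeval (Subtype.val ∘ fun i : Fin (n - 1) => e ⟨i⟩) p = 0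
      rw [e']
      exact h'
    have e1 : aeval (fun i => (w i : L)) p = ((aeval w p : B) : L) := (comp_aeval_apply w B.val p).symm
    rw [e1]
    refine le_antisymm ((V.valuation_le_one_iff _).2 (hBV' _)) ?_
    have hinv : ((aeval w p : B) : L)⁻¹ ∈ V := ⟨1, aeval w p, hpq, by simp [inv_mul_cancel₀ (hne hpq)]⟩
    have := (V.valuation_le_one_iff _).2 hinv
    rwa [map_inv₀, inv_le_one₀ (zero_lt_iff.2 ((map_ne_zero _).2 (hne hpq)))] at this

/-- A divisorial valuation subring is the local ring of a normal model. -/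
theorem exists_model {n : ℕ} (hn : Algebra.trdeg k L = n) (V : ValuationSubring L)
    (hk : ∀ c, algebraMap k L c ∈ V) (y : Set L) (hy : y.Finite) (hgen : IntermediateField.adjoin k y = ⊤)
    (hV : V ≠ ⊤) (u : Fin (n - 1) → L) (hu : ResIndep (k := k) V u) :
    ∃ (B : Subalgebra k L) (P : Ideal B), Algebra.FiniteType k B ∧ IsFractionRing B L ∧ (∀ x ∈ B, x ∈ V) ∧
      P.IsPrime ∧ (∀ b : B, b ∈ P ↔ V.valuation (b : L) < 1) ∧
      (∀ x ∈ V, ∃ a b : B, b ∉ P ∧ x * b = a) ∧ VarDim.tdeg k (B ⧸ P) < n := by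
  classical
  obtain ⟨z, hz⟩ : ∃ z, z ∉ V := by
    by_contra! h
    exact hV (top_le_iff.1 fun a _ => h a)
  let g : L → L := fun w => if w ∈ V then w else w⁻¹
  let s : Set L := g '' y ∪ insert z⁻¹ (Set.range u)
  have hs : s.Finite := (hy.image g).union ((Set.finite_range u).insert _)
  have hgenS : IntermediateField.adjoin k s = ⊤ := by
    refine top_le_iff.1 (hgen ▸ IntermediateField.adjoin_le_iff.2 fun w hw => ?_)
    have h : g w ∈ IntermediateField.adjoin k s := IntermediateField.subset_adjoin k s (Or.inl ⟨w, hw, rfl⟩)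
    by_cases hwV : w ∈ V
    · simpa [g, hwV] using h
    · simpa [g, hwV] using h
  have hsV : ∀ x ∈ s, x ∈ V := by
    rintro x (⟨w, -, rfl⟩ | rfl | ⟨i, rfl⟩)
    · by_cases hwV : w ∈ V
      · simp [g, hwV]
      · simpa [g, hwV] using (V.mem_or_inv_mem w).resolve_left hwV
    · exact (V.mem_or_inv_mem z).resolve_left hz
    · exact hu.1 i
  obtain ⟨B, hsB, hBV, hft, hfr, hic⟩ := exists_normal_model V hk s hs hsV hgenS
  haveI := hft; haveI := hfr; haveI := hic
  let θ : B →+* V := B.val.toRingHom.codRestrict V.toSubring fun b => hBV _ b.2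
  let P : Ideal B := (IsLocalRing.maximalIdeal V).comap θ
  haveI : P.IsPrime := inferInstance
  have hmem : ∀ b : B, b ∈ P ↔ V.valuation (b : L) < 1 := fun b => V.valuation_lt_one_iff (θ b)
  let x : B := ⟨z⁻¹, hsB (Or.inr (Or.inl rfl))⟩
  have hz0 : z ≠ 0 := fun h => hz (h ▸ V.zero_mem)
  have hxP : x ∈ P := by
    rw [hmem, ← V.mem_nonunits_iff, V.inv_mem_nonunits_iff]
    exact Or.inr hz
  have hB : VarDim.tdeg k B = n := by
    rw [VarDim.tdeg, ← trdeg_fractionRing (k := k) (A := B) (E := L), hn, Cardinal.toNat_natCast]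
  have hind : AlgebraicIndependent k fun i => Ideal.Quotient.mkₐ k P ⟨u i, hsB (Or.inr (Or.inr ⟨i, rfl⟩))⟩ := by
    rw [algebraicIndependent_iff]
    intro p hp
    by_contra hne
    rw [← comp_aeval_apply] at hp
    have h1 := (hmem _).1 (Ideal.Quotient.eq_zero_iff_mem.1 hp)
    rw [show ((aeval (fun i => (⟨u i, hsB (Or.inr (Or.inr ⟨i, rfl⟩))⟩ : B)) p : B) : L) = aeval u p from
      comp_aeval_apply _ B.val p, hu.2 p hne] at h1
    exact lt_irrefl _ h1
  have hle : n - 1 ≤ VarDim.tdeg k (B ⧸ P) := by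
    have h := hind.lift_cardinalMk_le_trdeg
    rw [VarDim.trdeg_eq_tdeg k (B ⧸ P)] at h
    simpa using h
  have hsum := VarDim.height_add_coheight_nat k B ⟨P, inferInstance⟩
  rw [← PrimeSpectrum.height_eq_orderHeight, VarDim.coheight_eq_tdeg k B, hB] at hsum
  have hne0 : P.height ≠ 0 := by
    rw [Ne, Ideal.height_eq_zero_iff_eq_bot]
    intro h
    rw [h, Ideal.mem_bot] at hxP
    exact inv_ne_zero hz0 (congrArg Subtype.val hxP)
  obtain ⟨a, ha⟩ : ∃ a : ℕ, (a : ℕ∞) = P.height :=
    ENat.ne_top_iff_exists.1 fun h => by simp [h] at hsum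
  rw [← ha] at hsum hne0
  norm_cast at hsum hne0
  dsimp only at hsum
  have hP1 : P.height = 1 := by rw [← ha]; norm_cast; omega
  refine ⟨B, P, hft, hfr, hBV, inferInstance, hmem, fun w hw => ?_, by omega⟩
  rcases mem_or_inv_mem_of_height_one B P hP1 w with h | ⟨a', b, hb, e⟩
  · exact h
  rcases eq_or_ne w 0 with rfl | hw0
  · exact ⟨0, b, hb, by simp⟩
  by_cases ha' : a' ∈ P
  · exfalso
    have hb1 : V.valuation (b : L) = 1 :=
      le_antisymm ((V.valuation_le_one_iff _).2 (hBV _ b.2)) (not_lt.1 fun h => hb ((hmem b).2 h))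
    have h1 := (hmem a').1 ha'
    rw [← e, map_mul, hb1, mul_one, map_inv₀, inv_lt_one₀ (zero_lt_iff.2 ((map_ne_zero _).2 hw0))] at h1
    exact not_le.2 h1 ((V.valuation_le_one_iff _).2 hw)
  · exact ⟨b, a', ha', by rw [← e]; exact mul_inv_cancel_left₀ hw0 _⟩

end Groth.Agent.Chevalley25
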