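import Groth.Agent.Lib.Chevalley25.Translate
import Groth.Agent.Lib.Chevalley25.Model
import Groth.Agent.S9700
import Groth.Agent.Lib.WeilRes21.Main
import Mathlib.AlgebraicGeometry.ValuativeCriterion

/-!
# An invariant divisorial valuation without centre
-/

set_option autoImplicit false
set_option linter.style.haveILetI false
set_option backward.isDefEq.respectTransparency false
set_option synthInstance.maxHeartbeats 400000

universe u

open CategoryTheory CategoryTheory.Limits MonoidalCategory CartesianMonoidalCategory MonObj AlgebraicGeometry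
open TensorProduct Filter
open scoped GrpObj nonZeroDivisors

noncomputable section

namespace Groth.Agent.Chevalley25

open WeilRes21

variable {k : Type u} [Field k]

/-- A valuation subring as a subalgebra. -/
def valSub {L : Type u} [Field L] [Algebra k L] (V : ValuationSubring L) (hk : ∀ c, algebraMap k L c ∈ V) :
    Subalgebra k L :=
  { V.toSubring with algebraMap_mem' := hk }

instance isLocalRing_valSub {L : Type u} [Field L] [Algebra k L] (V : ValuationSubring L)
    (hk : ∀ c, algebraMap k L c ∈ V) : IsLocalRing (valSub V hk) := inferInstanceAs (IsLocalRing V)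

/-- Transcendence degrees for a second embedding. -/
theorem exists_resIndep_comap' {L F : Type u} [Field L] [Field F] [Algebra k L] [Algebra k F] (j : L →ₐ[k] F)
    (W : ValuationSubring F) (hk : ∀ c, algebraMap k F c ∈ W) {σ : Type} [Fintype σ] (z : σ → F)
    (hz : ResIndep (k := k) W z) {n m : ℕ} (hL : Algebra.trdeg k L = n) (hF : Algebra.trdeg k F ≤ (n + n : ℕ))
    (hm : m + n ≤ Fintype.card σ) :
    ∃ w : Fin m → L, ResIndep (k := k) (W.comap j.toRingHom) w := by
  letI : Algebra L F := j.toRingHom.toAlgebra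
  haveI : IsScalarTower k L F := IsScalarTower.of_algebraMap_eq fun c => (j.commutes c).symm
  refine exists_resIndep_comap W hk z hz ?_ hm
  have h := trdeg_add_eq k L (A := F)
  rw [hL] at h
  rw [← h] at hF
  have hlt : Algebra.trdeg L F < Cardinal.aleph0 :=
    lt_of_le_of_lt (le_trans le_add_self hF) (Cardinal.natCast_lt_aleph0)
  obtain ⟨a, ha⟩ := Cardinal.lt_aleph0.1 hlt
  rw [ha] at hF ⊢
  norm_cast at hF ⊢
  omega

variable {G : Over (Spec (CommRingCat.of k))} [GrpObj G] [AlgebraicGeometry.IsIntegral G.left]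
  [LocallyOfFiniteType G.hom] [QuasiCompact G.hom] [IsSeparated G.hom]
  {R : Type u} [CommRing R] [IsDomain R] [Algebra k R]
  (iU : specOver k R ⟶ G) [IsOpenImmersion iU.left]
  {L : Type u} [Field L] [Algebra k L] [Algebra R L] [IsScalarTower k R L] [IsFractionRing R L]

variable (L) in
/-- The valuation subring has a centre on the group. -/
def HasCentre (V : ValuationSubring L) (hk : ∀ c, algebraMap k L c ∈ V) : Prop :=
  ∃ Q : specOver k (valSub V hk) ⟶ G, specMap (valSub V hk).val ≫ Q = gen iU L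

omit [GrpObj G] in
/-- A non-proper group has a valuation of its function field without centre. -/
theorem exists_no_centre (hG : ¬ IsProper G.hom) :
    ∃ (V : ValuationSubring L) (hk : ∀ c, algebraMap k L c ∈ V), ¬ HasCentre iU L V hk := by
  by_contra! hall
  haveI : QuasiCompact (gen iU L).left := by
    haveI : QuasiCompact ((gen iU L).left ≫ G.hom) := by
      rw [Over.w (gen iU L)]
      exact inferInstanceAs (QuasiCompact (Spec.map (CommRingCat.ofHom (algebraMap k L))))
    exact QuasiCompact.of_comp (gen iU L).left G.hom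
  have hd : DenseRange (gen iU L).left.base := by
    rw [DenseRange, dense_iff_closure_eq, ← Set.univ_subset_iff, ← genericPoint_closure G.left]
    refine closure_mono (Set.singleton_subset_iff.2 ⟨IsLocalRing.closedPoint L, ?_⟩)
    exact gen_apply iU
  suffices huc : UniversallyClosed G.hom by exact hG ⟨⟩
  refine (Groth.Agent.S9700.result G.hom (gen iU L).left hd fun sq ⟨i, hi⟩ => ?_).1
  haveI : Subsingleton sq.commSq.LiftStruct := IsSeparated.valuativeCriterion G.hom sq
  suffices h : Nonempty sq.commSq.LiftStruct from ⟨uniqueOfSubsingleton h.some⟩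
  let e : L →+* sq.K := (Spec.preimage i).hom
  let c : k →+* sq.R := (Spec.preimage sq.i₂).hom
  have hec : e.comp (algebraMap k L) = (algebraMap sq.R sq.K).comp c := by
    have h := sq.commSq.w
    rw [← hi, Category.assoc, Over.w (gen iU L)] at h
    show ((CommRingCat.ofHom (algebraMap k L)) ≫ Spec.preimage i).hom = (Spec.preimage sq.i₂ ≫ CommRingCat.ofHom _).hom
    congr 1
    apply Spec.map_injective
    rw [Spec.map_comp, Spec.map_comp, Spec.map_preimage, Spec.map_preimage]
    exact h
  let W : ValuationSubring sq.K :=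
    ⟨(algebraMap sq.R sq.K).range, ValuationRing.isInteger_or_isInteger sq.R⟩
  let V := W.comap e
  have hk : ∀ a, algebraMap k L a ∈ V := fun a => ⟨c a, (RingHom.congr_fun hec a).symm⟩
  obtain ⟨Q, hQ⟩ := hall V hk
  let ρ : sq.R ≃+* (algebraMap sq.R sq.K).range :=
    RingEquiv.ofBijective (algebraMap sq.R sq.K).rangeRestrict
      ⟨fun a b hab => IsFractionRing.injective sq.R sq.K (congrArg Subtype.val hab),
        (algebraMap sq.R sq.K).rangeRestrict_surjective⟩
  let θ : (valSub V hk) →+* sq.R :=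
    ρ.symm.toRingHom.comp ((e.comp (valSub V hk).val.toRingHom).codRestrict _ fun x => x.2)
  have hθ : ∀ x, algebraMap sq.R sq.K (θ x) = e (x : L) := fun x => by
    have := congrArg Subtype.val (ρ.apply_symm_apply
      (((e.comp (valSub V hk).val.toRingHom).codRestrict (algebraMap sq.R sq.K).range fun x => x.2) x))
    exact this
  refine ⟨⟨Spec.map (CommRingCat.ofHom θ) ≫ Q.left, ?_, ?_⟩⟩
  · rw [← hi, ← hQ, ← Category.assoc, ← Spec.map_comp, Over.comp_left, specMap_left, ← Category.assoc]
    congr 1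
    rw [show i = Spec.map (Spec.preimage i) from (Spec.map_preimage i).symm, ← Spec.map_comp]
    congr 1
    ext x
    exact hθ x
  · rw [Category.assoc, Over.w Q]
    show Spec.map _ ≫ Spec.map _ = _
    rw [← Spec.map_comp, ← Spec.map_preimage sq.i₂]
    congr 1
    ext a
    apply IsFractionRing.injective sq.R sq.K
    show algebraMap sq.R sq.K (θ (algebraMap k _ a)) = _
    rw [hθ]
    exact RingHom.congr_fun hec a

omit [LocallyOfFiniteType G.hom] [QuasiCompact G.hom] [IsSeparated G.hom] [GrpObj G] in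
/-- A valuation ring containing the coordinates of a chart has a centre. -/
theorem hasCentre_of_chart {R' : Type u} [CommRing R'] [Algebra k R'] (iU' : specOver k R' ⟶ G)
    (e : R' →ₐ[k] L) (he : specMap e ≫ iU' = gen iU L) (V : ValuationSubring L) (hk : ∀ c, algebraMap k L c ∈ V)
    (h : ∀ r, e r ∈ V) : HasCentre iU L V hk :=
  ⟨specMap (e.codRestrict (valSub V hk) h) ≫ iU', by
    rw [← Category.assoc, specMap_comp, ← he]; rfl⟩

omit [GrpObj G] in
/-- No centre is witnessed by finitely many elements. -/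
theorem exists_witness :
    ∃ (S : Finset (Finset L)), ∀ (V : ValuationSubring L) (hk : ∀ c, algebraMap k L c ∈ V),
      HasCentre iU L V hk ↔ ∃ T ∈ S, ∀ t ∈ T, t ∈ V := by
  classical
  haveI : CompactSpace G.left := QuasiCompact.compactSpace_of_compactSpace G.hom
  haveI : Finite G.left.affineCover.finiteSubcover.I₀ := inferInstance
  let 𝒰 := G.left.affineCover.finiteSubcover
  haveI : ∀ i, IsAffine (𝒰.X i) := fun i => by
    show IsAffine (Spec _)
    infer_instance
  have key : ∀ i : 𝒰.I₀, ∃ (T : Finset L), (Set.range (𝒰.f i)).Nonempty → ∀ (V : ValuationSubring L) (hk : ∀ c, algebraMap k L c ∈ V),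
      ((∀ t ∈ T, t ∈ V) → HasCentre iU L V hk) ∧
      (∀ Q : specOver k (valSub V hk) ⟶ G, specMap (valSub V hk).val ≫ Q = gen iU L →
        Q.left (IsLocalRing.closedPoint (valSub V hk : Subalgebra k L)) ∈ Set.range (𝒰.f i) → ∀ t ∈ T, t ∈ V) := by
    intro i
    let W : Over (Spec (CommRingCat.of k)) := Over.mk (𝒰.f i ≫ G.hom)
    haveI : IsAffine W.left := inferInstanceAs (IsAffine (𝒰.X i))
    obtain ⟨R', _, _, ⟨j⟩⟩ := exists_iso_specOver W
    let iU' : specOver k R' ⟶ G := j.inv ≫ Over.homMk (𝒰.f i) rfl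
    haveI : IsIso j.inv.left := inferInstanceAs (IsIso ((Over.forget _).map j.inv))
    haveI : IsOpenImmersion iU'.left := inferInstanceAs (IsOpenImmersion (j.inv.left ≫ 𝒰.f i))
    have hji : j.hom ≫ iU' = Over.homMk (𝒰.f i) rfl := Iso.hom_inv_id_assoc j _
    have hrange : ∀ z, 𝒰.f i z ∈ Set.range iU'.left := fun z => ⟨j.hom.left z, by
      rw [← Scheme.Hom.comp_apply, ← Over.comp_left, hji]; rfl⟩
    by_cases hnE : (Set.range (𝒰.f i)).Nonempty
    · obtain ⟨x, hx⟩ : genericPoint G.left ∈ Set.range iU'.left := by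
        obtain ⟨_, z, rfl⟩ := hnE
        exact ((genericPoint_specializes _).mem_open iU'.left.isOpenEmbedding.isOpen_range (hrange z))
      obtain ⟨e, he, -⟩ := exists_factor iU' (gen iU L) x ((gen_apply iU).trans hx.symm)
      haveI : Algebra.FiniteType k R' := by
        haveI : LocallyOfFiniteType (specOver k R').hom := by rw [← Over.w iU']; infer_instance
        exact finiteType_of_locallyOfFiniteType (Iso.refl (specOver k R'))
      obtain ⟨s, hs⟩ := (‹Algebra.FiniteType k R'›).out
      refine ⟨s.image e, fun _ V hk => ⟨fun h => hasCentre_of_chart iU iU' e he V hk fun r => ?_, fun Q hQ hmem t ht => ?_⟩⟩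
      · have hS : (valSub V hk).comap e = ⊤ := top_le_iff.1 (hs ▸ Algebra.adjoin_le fun y hy =>
          h _ (Finset.mem_image_of_mem e hy))
        exact (show r ∈ (valSub V hk).comap e from hS ▸ Algebra.mem_top)
      · obtain ⟨r, -, rfl⟩ := Finset.mem_image.1 ht
        have hr : Set.range Q.left ⊆ Set.range iU'.left := by
          rintro _ ⟨P, rfl⟩
          refine (Specializes.map ?_ Q.left.continuous).mem_open iU'.left.isOpenEmbedding.isOpen_range ?_ (y :=
            Q.left (IsLocalRing.closedPoint (valSub V hk : Subalgebra k L)))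
          · exact IsLocalRing.specializes_closedPoint P
          · obtain ⟨z, hz⟩ := hmem
            exact hz ▸ hrange z
        let q : specOver k (valSub V hk) ⟶ specOver k R' := Over.homMk (IsOpenImmersion.lift iU'.left Q.left hr) (by
          rw [← Over.w iU', IsOpenImmersion.lift_fac_assoc]
          exact Over.w Q)
        have hqQ : specMap (algHomEquiv q) ≫ iU' = Q := by
          rw [← algHomEquiv_symm_apply, Equiv.symm_apply_apply]
          exact Over.OverMorphism.ext (IsOpenImmersion.lift_fac _ _ hr)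
        have heq : (valSub V hk).val.comp (algHomEquiv q) = e := by
          apply chart_injective iU'
          rw [← specMap_comp, Category.assoc, hqQ, hQ, he]
        rw [← heq]
        exact (algHomEquiv q r).2
    · exact ⟨∅, fun h => absurd h hnE⟩
  choose T hT using key
  haveI : Fintype 𝒰.I₀ := Fintype.ofFinite _
  refine ⟨(Finset.univ.filter fun i => (Set.range (𝒰.f i)).Nonempty).image T,
    fun V hk => ⟨fun ⟨Q, hQ⟩ => ?_, fun ⟨t, ht, h⟩ => ?_⟩⟩
  · obtain ⟨i, y, hy⟩ := 𝒰.exists_eq (Q.left (IsLocalRing.closedPoint (valSub V hk : Subalgebra k L)))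
    exact ⟨T i, Finset.mem_image_of_mem T (Finset.mem_filter.2 ⟨Finset.mem_univ i, ⟨_, y, hy⟩⟩),
      (hT i ⟨_, y, hy⟩ V hk).2 Q hQ ⟨y, hy⟩⟩
  · obtain ⟨i, hi, rfl⟩ := Finset.mem_image.1 ht
    exact (hT i (Finset.mem_filter.1 hi).2 V hk).1 h

variable [IsAlgClosed k] [Algebra.FiniteType k R]
  {F : Type u} [Field F] [Algebra (L ⊗[k] R) F] [IsFractionRing (L ⊗[k] R) F]
  [Algebra L F] [IsScalarTower L (L ⊗[k] R) F] [Algebra k F] [IsScalarTower k L F]

omit [GrpObj G] [LocallyOfFiniteType G.hom] [QuasiCompact G.hom] [IsSeparated G.hom] [AlgebraicGeometry.IsIntegral G.left]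
  [IsOpenImmersion iU.left] in
theorem trdeg_fraction_le {n : ℕ} (hn : Algebra.trdeg k L = n) [IsScalarTower k (L ⊗[k] R) F] :
    Algebra.trdeg k F ≤ (n + n : ℕ) := by
  rw [← trdeg_add_eq k L (A := F), hn]
  push_cast
  refine add_le_add_right ?_ _
  rw [trdeg_fractionRing (k := L) (A := L ⊗[k] R) (E := F)]
  refine trdeg_base_le.trans ?_
  rw [← trdeg_fractionRing (k := k) (A := R) (E := L), hn]

variable (F) in
/-- A non-proper connected group has a divisorial valuation, without centre, invariant under all translations. -/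
theorem exists_invariant [IsScalarTower k (L ⊗[k] R) F] (hG : ¬ IsProper G.hom) {n : ℕ}
    (hn : Algebra.trdeg k L = n) :
    ∃ (V : ValuationSubring L) (hk : ∀ c, algebraMap k L c ∈ V), V ≠ ⊤ ∧
      (∀ (h : specOver k k ⟶ G) (l : L), lam iU L h l ∈ V ↔ l ∈ V) ∧
      (∀ l : L, mHom iU L F l ∈ gauss (R := R) V hk ↔ l ∈ V) ∧
      ∃ w : Fin (n - 1) → L, ResIndep (k := k) V w := by
  classical
  obtain ⟨S, hS⟩ := exists_witness iU (L := L)
  obtain ⟨V₀, hk₀, hV₀⟩ := exists_no_centre iU (L := L) hG
  have hsel : ∀ T ∈ S, ∃ t ∈ T, t ∉ V₀ := fun T hT => by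
    by_contra! h
    exact hV₀ ((hS V₀ hk₀).2 ⟨T, hT, h⟩)
  choose! t ht htV using hsel
  obtain ⟨s, hs⟩ := (‹Algebra.FiniteType k R›).out
  have hy : IntermediateField.adjoin k (algebraMap R L '' (s : Set R)) = ⊤ := by
    refine top_le_iff.1 fun x _ => ?_
    have hR : ∀ r : R, algebraMap R L r ∈ IntermediateField.adjoin k (algebraMap R L '' (s : Set R)) := fun r => by
      have hT : (IntermediateField.adjoin k (algebraMap R L '' (s : Set R))).toSubalgebra.comap
          (IsScalarTower.toAlgHom k R L) = ⊤ :=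
        top_le_iff.1 (hs ▸ Algebra.adjoin_le fun y hy => IntermediateField.subset_adjoin k _ ⟨y, hy, rfl⟩)
      exact (show r ∈ (IntermediateField.adjoin k (algebraMap R L '' (s : Set R))).toSubalgebra.comap
        (IsScalarTower.toAlgHom k R L) from hT ▸ Algebra.mem_top)
    obtain ⟨a, b, -, rfl⟩ := IsFractionRing.div_surjective R x
    exact div_mem (hR a) (hR b)
  obtain ⟨V₁, hk₁, hno, u, hu⟩ : ∃ (V₁ : ValuationSubring L) (hk₁ : ∀ c, algebraMap k L c ∈ V₁),
      ¬ HasCentre iU L V₁ hk₁ ∧ ∃ u : Fin (n - 1) → L, ResIndep (k := k) V₁ u := by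
    rcases S.eq_empty_or_nonempty with rfl | hSne
    · exfalso
      have hk' : ∀ c, algebraMap k L c ∈ (⊤ : ValuationSubring L) := fun _ => ValuationSubring.mem_top _
      let f : L →ₐ[k] valSub (⊤ : ValuationSubring L) hk' :=
        (AlgHom.id k L).codRestrict _ fun _ => ValuationSubring.mem_top _
      obtain ⟨T, hT, -⟩ := (hS ⊤ hk').1 (hasCentre_of_chart iU iU (IsScalarTower.toAlgHom k R L) rfl ⊤ hk'
        fun _ => ValuationSubring.mem_top _)
      exact (Finset.notMem_empty T) hT
    · obtain ⟨V₁, hk₁, hT, u, hu⟩ := exists_divisorial hn V₀ hk₀ _ ((s.finite_toSet).image _) hy (S.image t)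
        (hSne.image t) (fun x hx => by
          obtain ⟨T, hT, rfl⟩ := Finset.mem_image.1 hx
          exact htV T hT)
      refine ⟨V₁, hk₁, fun hc => ?_, u, hu⟩
      obtain ⟨T, hTS, h⟩ := (hS V₁ hk₁).1 hc
      exact hT _ (Finset.mem_image_of_mem t hTS) (h _ (ht T hTS))
  let W₂ : ValuationSubring F := gauss (R := R) V₁ hk₁
  let V := W₂.comap (mHom iU L F).toRingHom
  have hmem : ∀ l, l ∈ V ↔ ∀ᶠ g in Gen k R, lam iU L (pt iU g) l ∈ V₁ := fun l => by
    refine (mem_gauss_iff_forall (V := V₁) (hk := hk₁) (f := mHom iU L F l)).trans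
      (Filter.eventually_congr ((eventually_goodPt (L := L) (F := F) iU).mono fun g hg => ?_))
    obtain ⟨hm, he⟩ := ev_mHom iU hg l
    exact ⟨fun h => he ▸ h hm, fun h _ => he.symm ▸ h⟩
  have hk : ∀ c, algebraMap k L c ∈ V := fun c => (hmem _).2 (Filter.Eventually.of_forall fun g => by
    rw [AlgHom.commutes]; exact hk₁ c)
  have hinv₁ : ∀ (h : specOver k k ⟶ G) (l : L), l ∈ V → lam iU L h l ∈ V := fun h l hl => by
    rw [hmem] at hl ⊢
    refine ((tendsto_chartPt iU (iU ≫ tau h)).eventually hl |>.and (eventually_chartPt_spec iU (iU ≫ tau h))).mono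
      fun g ⟨hg, hc⟩ => ?_
    rw [← AlgHom.comp_apply, ← lam_mul]
    rwa [show pt iU (chartPt iU (iU ≫ tau h) g) = h * pt iU g by
      rw [pt, hc, ← Category.assoc, comp_tau, cst_self]] at hg
  have hinv : ∀ (h : specOver k k ⟶ G) (l : L), lam iU L h l ∈ V ↔ l ∈ V := fun h l =>
    ⟨fun hl => by simpa [lam_inv_lam] using hinv₁ h⁻¹ _ hl, hinv₁ h l⟩
  refine ⟨V, hk, fun htop => ?_, hinv, fun l => ?_, ?_⟩
  · have hall : ∀ᶠ g in Gen k R, ∀ r ∈ s, lam iU L (pt iU g) (algebraMap R L r) ∈ V₁ :=
      (Filter.eventually_all_finset s).2 fun r _ => (hmem _).1 (htop ▸ ValuationSubring.mem_top _)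
    obtain ⟨g, hg⟩ := hall.exists
    let f : R →ₐ[k] L := (lam iU L (pt iU g)).comp (IsScalarTower.toAlgHom k R L)
    have hf : ∀ r, f r ∈ valSub V₁ hk₁ := fun r => by
      have hS' : (valSub V₁ hk₁).comap f = ⊤ := top_le_iff.1 (hs ▸ Algebra.adjoin_le fun y hy => hg y hy)
      exact (show r ∈ (valSub V₁ hk₁).comap f from hS' ▸ Algebra.mem_top)
    let Q₀ : specOver k (valSub V₁ hk₁) ⟶ G := specMap (f.codRestrict _ hf) ≫ iU
    refine hno ⟨cst _ (pt iU g)⁻¹ * Q₀, ?_⟩
    have hQ₀ : specMap (valSub V₁ hk₁).val ≫ Q₀ = cst (specOver k L) (pt iU g) * gen iU L := by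
      rw [← lam_spec, gen, ← Category.assoc, ← Category.assoc, specMap_comp, specMap_comp]
      rfl
    rw [MonObj.comp_mul, comp_cst, hQ₀, cst_inv, inv_mul_cancel_left]
  · rw [mem_gauss_iff_forall]
    rw [Filter.eventually_congr ((eventually_goodPt (L := L) (F := F) iU).mono fun g hg => show
      (∀ h : mHom iU L F l ∈ locAt (L := L) g, ev g ⟨_, h⟩ ∈ V) ↔ l ∈ V from by
        obtain ⟨hm, he⟩ := ev_mHom iU hg l
        exact ⟨fun h => (hinv (pt iU g) l).1 (he ▸ h hm), fun h _ => he.symm ▸ (hinv (pt iU g) l).2 h⟩)]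
    exact Filter.eventually_const
  · obtain ⟨a, g₀, hg₀, -⟩ := exists_integral_inj_algHom_of_fg k R
    obtain ⟨b, hb⟩ := exists_isTranscendenceBasis k R
    have hcard : Cardinal.mk b = (n : Cardinal) := by
      rw [hb.cardinalMk_eq_trdeg, ← trdeg_fractionRing (k := k) (A := R) (E := L), hn]
    obtain ⟨e⟩ : Nonempty (ULift.{u} (Fin n) ≃ b) := by rw [← Cardinal.eq, hcard]; simp
    have hr : AlgebraicIndependent k fun i : Fin n => ((e ⟨i⟩ : b) : R) :=
      hb.1.comp (fun i : Fin n => e ⟨i⟩) fun x y hxy => by simpa using congrArg ULift.down (e.injective hxy)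
    have hkW : ∀ c, algebraMap k F c ∈ W₂ := fun c => by
      rw [IsScalarTower.algebraMap_apply k L F]
      exact gVal_algebraMap (hk₁ c)
    exact exists_resIndep_comap' (mHom iU L F) W₂ hkW _ (resIndep_gauss (F := F) hu hr) hn
      (trdeg_fraction_le (R := R) hn) (by simp)

end Groth.Agent.Chevalley25
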