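import Groth.Agent.Lib.Chevalley25.Gauss
import Mathlib.RingTheory.AlgebraicIndependent.TranscendenceBasis
import Mathlib.RingTheory.AlgebraicIndependent.Transcendental
import Mathlib.Algebra.MvPolynomial.Equiv
import Mathlib.RingTheory.Localization.Integral
import Mathlib.RingTheory.LocalRing.ResidueField.Basic
import Mathlib.RingTheory.NoetherNormalization

/-!
# Residually independent families in valuation subrings
-/

set_option autoImplicit false
set_option linter.style.haveILetI false
set_option synthInstance.maxHeartbeats 400000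

universe u

open TensorProduct Filter MvPolynomial
open scoped nonZeroDivisors

noncomputable section

namespace Groth.Agent.Chevalley25

variable {k : Type u} [Field k] {L : Type u} [Field L] [Algebra k L]

/-- A family whose residues are algebraically independent. -/
def ResIndep {ι : Type} (V : ValuationSubring L) (u : ι → L) : Prop :=
  (∀ i, u i ∈ V) ∧ ∀ p : MvPolynomial ι k, p ≠ 0 → V.valuation (aeval u p) = 1

section Gauss

variable {R : Type u} [CommRing R] [IsDomain R] [Algebra k R] [IsAlgClosed k] [Algebra.FiniteType k R]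
  {F : Type u} [Field F] [Algebra (L ⊗[k] R) F] [IsFractionRing (L ⊗[k] R) F]
  [Algebra L F] [IsScalarTower L (L ⊗[k] R) F]

theorem valuation_gauss_eq_one {V : ValuationSubring L} {hk : ∀ c, algebraMap k L c ∈ V} {f : F}
    (h : ∀ᶠ g in Gen k R, ∀ hm : f ∈ locAt (L := L) g, V.valuation (ev g ⟨f, hm⟩) = 1) :
    (gauss (R := R) V hk).valuation f = 1 := by
  have hm : f ∈ gauss (R := R) V hk := mem_gauss_iff_forall.2 (h.mono fun g hg hm =>
    (V.valuation_le_one_iff _).1 (hg hm).le)
  have hi : f⁻¹ ∈ gauss (R := R) V hk := by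
    refine mem_gauss.2 ((h.and (eventually_mem (k := k) (R := R) (L := L) f)).mono fun g ⟨hg, hm⟩ => ?_)
    have hne : ev g ⟨f, hm⟩ ≠ 0 := fun h0 => zero_ne_one ((map_zero V.valuation).symm.trans (h0 ▸ hg hm))
    obtain ⟨hi, he⟩ := inv_mem_locAt _ hne
    refine ⟨hi, (V.valuation_le_one_iff _).1 ?_⟩
    rw [he, map_inv₀, hg hm, inv_one]
  have hne : f ≠ 0 := fun h0 => by
    obtain ⟨g, hg, hmem⟩ := (h.and (eventually_mem (k := k) (R := R) (L := L) f)).exists
    refine zero_ne_one ((map_zero V.valuation).symm.trans ?_)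
    rw [← hg hmem]
    congr 1
    rw [show (⟨f, hmem⟩ : locAt (L := L) (F := F) g) = 0 from Subtype.ext h0, map_zero]
  refine le_antisymm (((gauss (R := R) V hk).valuation_le_one_iff _).2 hm) ?_
  have := ((gauss (R := R) V hk).valuation_le_one_iff _).2 hi
  rwa [map_inv₀, inv_le_one₀ (zero_lt_iff.2 ((map_ne_zero _).2 hne))] at this

/-- The residue field of the generic value ring contains that of `V` and the function field of `R`. -/
theorem resIndep_gauss {ι κ : Type} {V : ValuationSubring L} {hk : ∀ c, algebraMap k L c ∈ V}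
    {u : ι → L} (hu : ResIndep (k := k) V u) {r : κ → R} (hr : AlgebraicIndependent k r)
    [Algebra k F] [IsScalarTower k (L ⊗[k] R) F] :
    ResIndep (k := k) (gauss (R := R) (F := F) V hk)
      (Sum.elim (fun i => algebraMap (L ⊗[k] R) F (u i ⊗ₜ 1)) (fun j => algebraMap (L ⊗[k] R) F (1 ⊗ₜ r j))) := by
  constructor
  · rintro (i | j)
    · show algebraMap (L ⊗[k] R) F (u i ⊗ₜ 1) ∈ _
      refine mem_gauss.2 (Filter.Eventually.of_forall fun g => ⟨algebraMap_mem_locAt g _, ?_⟩)
      rw [ev_algebraMap, sp_tmul]; simpa using hu.1 i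
    · show algebraMap (L ⊗[k] R) F (1 ⊗ₜ r j) ∈ _
      refine mem_gauss.2 (Filter.Eventually.of_forall fun g => ⟨algebraMap_mem_locAt g _, ?_⟩)
      rw [ev_algebraMap, sp_tmul]; simpa using hk _
  · intro p hp
    let Z : ι ⊕ κ → L ⊗[k] R := Sum.elim (fun i => u i ⊗ₜ 1) (fun j => 1 ⊗ₜ r j)
    let q' : MvPolynomial ι R := aeval (Sum.elim X (fun j => C (r j))) p
    have hq' : q' ≠ 0 := by
      have e : (aeval (Sum.elim X (fun j => C (r j))) : MvPolynomial (ι ⊕ κ) k →ₐ[k] MvPolynomial ι R) =
          (MvPolynomial.mapAlgHom (aeval r : MvPolynomial κ k →ₐ[k] R)).comp (sumAlgEquiv k ι κ).toAlgHom := by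
        apply MvPolynomial.algHom_ext
        rintro (i | j)
        · simp [sumAlgEquiv_X_inl]
        · simp [sumAlgEquiv_X_inr]
      intro h0
      apply hp
      have h1 : MvPolynomial.map (aeval r : MvPolynomial κ k →ₐ[k] R).toRingHom (sumAlgEquiv k ι κ p) = 0 := by
        rw [← h0]; exact (AlgHom.congr_fun e p).symm
      exact (sumAlgEquiv k ι κ).injective
        ((MvPolynomial.map_injective _ hr (h1.trans (map_zero _).symm)).trans (map_zero _).symm)
    obtain ⟨d, hd⟩ := MvPolynomial.ne_zero_iff.1 hq'
    refine valuation_gauss_eq_one ((eventually_ne hd).mono fun g hg hm => ?_)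
    have hp' : aeval (fun x => algebraMap (L ⊗[k] R) F (Z x)) p = algebraMap (L ⊗[k] R) F (aeval Z p) :=
      aeval_algebraMap_apply F Z p
    have hfun : (Sum.elim (fun i => algebraMap (L ⊗[k] R) F (u i ⊗ₜ 1))
        (fun j => algebraMap (L ⊗[k] R) F (1 ⊗ₜ r j)) : ι ⊕ κ → F) = fun x => algebraMap (L ⊗[k] R) F (Z x) := by
      funext x; rcases x with i | j <;> rfl
    have he : ev g ⟨_, hm⟩ = sp g (aeval Z p) := by
      rw [← ev_algebraMap (F := F) g (aeval Z p)]
      congr 1
      exact Subtype.ext (by simp only [hfun, hp'])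
    rw [he]
    have hsp : sp g (aeval Z p) = aeval u (MvPolynomial.map g.toRingHom q') := by
      have e1 : ((sp (L := L) g).restrictScalars k).comp (aeval Z) =
          ((aeval u).comp (MvPolynomial.mapAlgHom g)).comp (aeval (Sum.elim X (fun j => C (r j)))) := by
        apply MvPolynomial.algHom_ext
        rintro (i | j) <;> simp [Z]
      exact AlgHom.congr_fun e1 p
    rw [hsp]
    exact hu.2 _ fun h0 => hg (by
      have := congrArg (coeff d) h0
      rwa [coeff_map, coeff_zero] at this)

end Gauss

section Count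

open IsLocalRing in
/-- Residually independent families give ones in the inverse image, up to the transcendence degree. -/
theorem exists_resIndep_comap {F : Type u} [Field F] [Algebra k F] [Algebra L F] [IsScalarTower k L F]
    (W : ValuationSubring F) (hk : ∀ c, algebraMap k F c ∈ W) {σ : Type} [Fintype σ] (z : σ → F)
    (hz : ResIndep (k := k) W z) {n m : ℕ} (hn : Algebra.trdeg L F ≤ n) (hm : m + n ≤ Fintype.card σ) :
    ∃ w : Fin m → L, ResIndep (k := k) (W.comap (algebraMap L F)) w := by
  classical
  let V₀ := W.comap (algebraMap L F)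
  have hk₀ : ∀ c, algebraMap k L c ∈ V₀ := fun c => by
    show algebraMap L F _ ∈ W
    rw [← IsScalarTower.algebraMap_apply]
    exact hk c
  letI : Algebra k W := ((algebraMap k F).codRestrict W.toSubring hk).toAlgebra
  letI : Algebra k V₀ := ((algebraMap k L).codRestrict V₀.toSubring hk₀).toAlgebra
  let f : V₀ →+* W := ((algebraMap L F).comp V₀.subtype).codRestrict W.toSubring fun x => x.2
  haveI : IsLocalHom f := ⟨fun x hx => by
    rw [V₀.valuation_eq_one_iff]
    rw [W.valuation_eq_one_iff] at hx
    have hx' : W.valuation (algebraMap L F x) = 1 := hx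
    have hne : (x : L) ≠ 0 := fun h => zero_ne_one (((map_zero W.valuation).symm.trans (by rw [← map_zero (algebraMap L F), ← h]) ).trans hx')
    refine le_antisymm ((V₀.valuation_le_one_iff _).2 x.2) ?_
    have hi : (x : L)⁻¹ ∈ V₀ := by
      show algebraMap L F _ ∈ W
      rw [← W.valuation_le_one_iff, map_inv₀, map_inv₀, hx', inv_one]
    have := (V₀.valuation_le_one_iff _).2 hi
    rwa [map_inv₀, inv_le_one₀ (zero_lt_iff.2 ((map_ne_zero _).2 hne))] at this⟩
  let κ₀ := ResidueField V₀
  let κ₁ := ResidueField W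
  letI : Algebra k κ₀ := ((residue V₀).comp (algebraMap k V₀)).toAlgebra
  letI : Algebra k κ₁ := ((residue W).comp (algebraMap k W)).toAlgebra
  letI : Algebra κ₀ κ₁ := (ResidueField.map f).toAlgebra
  haveI : IsScalarTower k κ₀ κ₁ := IsScalarTower.of_algebraMap_eq fun c => by
    show residue W (algebraMap k W c) = ResidueField.map f (residue V₀ (algebraMap k V₀ c))
    rw [ResidueField.map_residue]
    congr 1
    exact Subtype.ext (IsScalarTower.algebraMap_apply k L F c)
  let vW : W →ₐ[k] F := { W.subtype with commutes' := fun _ => rfl }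
  let rW : W →ₐ[k] κ₁ := { residue W with commutes' := fun _ => rfl }
  let v₀ : V₀ →ₐ[k] L := { V₀.subtype with commutes' := fun _ => rfl }
  let r₀ : V₀ →ₐ[k] κ₀ := { residue V₀ with commutes' := fun _ => rfl }
  have hz' : AlgebraicIndependent k fun i => rW ⟨z i, hz.1 i⟩ := by
    rw [algebraicIndependent_iff]
    intro p hp
    by_contra hne
    rw [← comp_aeval_apply] at hp
    have h1 : W.valuation (aeval (fun i => (⟨z i, hz.1 i⟩ : W)) p : F) = 1 := by
      refine Eq.trans ?_ (hz.2 p hne)
      congr 1
      exact comp_aeval_apply (fun i => (⟨z i, hz.1 i⟩ : W)) vW p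
    rw [← W.valuation_eq_one_iff] at h1
    exact (h1.map rW).ne_zero hp
  have h01 : Algebra.trdeg κ₀ κ₁ ≤ n := by
    refine le_trans ?_ hn
    unfold Algebra.trdeg
    refine ciSup_le' fun s => ?_
    choose w hw using fun x : s.1 => residue_surjective (x : κ₁)
    have hind : AlgebraicIndependent L fun x => (w x : F) := by
      rw [algebraicIndependent_iff]
      intro p hp
      by_contra hne
      obtain ⟨d₀, hd₀, hmax⟩ := p.support.exists_max_image (fun d => V₀.valuation (p.coeff d))
        (MvPolynomial.support_nonempty.2 hne)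
      have hc : p.coeff d₀ ≠ 0 := MvPolynomial.mem_support_iff.1 hd₀
      have hmem : ∀ d, p.coeff d / p.coeff d₀ ∈ V₀ := fun d => by
        rw [← V₀.valuation_le_one_iff, map_div₀]
        by_cases hd : d ∈ p.support
        · exact div_le_one_of_le₀ (hmax d hd) zero_le
        · rw [MvPolynomial.notMem_support_iff.1 hd, map_zero, zero_div]; exact zero_le
      obtain ⟨q, hq⟩ : C (p.coeff d₀)⁻¹ * p ∈ Set.range (MvPolynomial.map V₀.subtype) := by
        refine MvPolynomial.mem_range_map_iff_coeffs_subset.2 fun c hc' => ?_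
        obtain ⟨d, -, rfl⟩ := MvPolynomial.mem_coeffs_iff.1 hc'
        exact ⟨⟨_, hmem d⟩, by simp [div_eq_inv_mul]⟩
      have hq0 : MvPolynomial.map (residue V₀) q ≠ 0 := fun h => by
        have h1 := congrArg (coeff d₀) h
        rw [coeff_map, coeff_zero] at h1
        have h2 : ((coeff d₀ q : V₀) : L) = 1 := by
          have h3 := congrArg (coeff d₀) hq
          rw [coeff_map, coeff_C_mul, inv_mul_cancel₀ hc] at h3
          exact h3
        rw [show coeff d₀ q = 1 from Subtype.ext h2, map_one] at h1
        exact one_ne_zero h1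
      have hzero : eval₂ f w q = 0 := by
        apply W.subtype_injective
        rw [map_zero, MvPolynomial.eval₂_comp_left,
          show W.subtype.comp f = (algebraMap L F).comp V₀.subtype from RingHom.ext fun _ => rfl,
          ← MvPolynomial.eval₂_map, hq]
        show eval₂ (algebraMap L F) _ _ = 0
        rw [eval₂_mul, eval₂_C, ← aeval_def]
        erw [hp]
        exact mul_zero _
      have hres := congrArg (residue W) hzero
      rw [map_zero, MvPolynomial.eval₂_comp_left,
        show (residue W).comp f = (ResidueField.map f).comp (residue V₀) from RingHom.ext fun _ => rfl,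
        ← MvPolynomial.eval₂_map] at hres
      refine hq0 ((algebraicIndependent_iff.1 s.2) _ ?_)
      rw [aeval_def]
      have e : ((residue W) ∘ w) = fun i : s.1 => id (i : κ₁) := funext hw
      rw [← e]
      exact hres
    exact hind.cardinalMk_le_trdeg
  have h0 : (m : Cardinal) ≤ Algebra.trdeg k κ₀ := by
    have h1 : (Fintype.card σ : Cardinal) ≤ Algebra.trdeg k κ₁ := by
      have := hz'.lift_cardinalMk_le_trdeg
      simpa using this
    rw [← trdeg_add_eq k κ₀] at h1
    rcases lt_or_ge (Algebra.trdeg k κ₀) Cardinal.aleph0 with hlt | hge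
    · obtain ⟨a, ha⟩ := Cardinal.lt_aleph0.1 hlt
      rw [ha] at h1 ⊢
      have h2 := h1.trans (add_le_add_right h01 _)
      norm_cast at h2 ⊢
      omega
    · exact (Cardinal.natCast_le_aleph0).trans hge
  obtain ⟨s, hs⟩ := exists_isTranscendenceBasis k κ₀
  have hcard : (m : Cardinal) ≤ Cardinal.mk s := h0.trans_eq hs.cardinalMk_eq_trdeg.symm
  obtain ⟨e⟩ : Nonempty (ULift.{u} (Fin m) ↪ s) := by rw [← Cardinal.le_def]; simpa using hcard
  choose w hw using fun i : Fin m => residue_surjective ((e ⟨i⟩ : s) : κ₀)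
  refine ⟨fun i => (w i : L), fun i => (w i).2, fun p hp => ?_⟩
  have h1 : r₀ (aeval w p) ≠ 0 := by
    rw [comp_aeval_apply]
    have hi := hs.1.comp (fun i : Fin m => e ⟨i⟩) (fun a b hab => by simpa using congrArg ULift.down (e.injective hab))
    intro h
    refine hp (algebraicIndependent_iff.1 hi p ?_)
    have e' : (Subtype.val ∘ fun i : Fin m => e ⟨i⟩) = fun i => r₀ (w i) := funext fun i => (hw i).symm
    show aeval (Subtype.val ∘ fun i : Fin m => e ⟨i⟩) p = 0
    rw [e']
    exact h
  have h2 : IsUnit (aeval w p) := IsLocalRing.notMem_maximalIdeal.1 fun h => h1 ((residue_eq_zero_iff _).2 h)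
  rw [V₀.valuation_eq_one_iff] at h2
  rw [← h2]
  congr 1
  exact (comp_aeval_apply w v₀ p).symm

end Count

section Trdeg

theorem trdeg_fractionRing {A E : Type u} [CommRing A] [IsDomain A] [Field E] [Algebra A E] [IsFractionRing A E]
    [Algebra k A] [Algebra k E] [IsScalarTower k A E] : Algebra.trdeg k E = Algebra.trdeg k A := by
  haveI : Algebra.IsAlgebraic A E := IsLocalization.isAlgebraic E (nonZeroDivisors A)
  haveI : FaithfulSMul A E := (faithfulSMul_iff_algebraMap_injective A E).2 (IsFractionRing.injective A E)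
  haveI : Nontrivial k := inferInstance
  rw [← trdeg_add_eq k A (A := E), trdeg_eq_zero (R := A) (A := E), add_zero]

variable {R : Type u} [CommRing R] [IsDomain R] [Algebra k R] [IsAlgClosed k] [Algebra.FiniteType k R]

theorem trdeg_base_le : Algebra.trdeg L (L ⊗[k] R) ≤ Algebra.trdeg k R := by
  obtain ⟨s, g, hg, hgi⟩ := exists_integral_inj_algHom_of_fg k R
  have hs : (s : Cardinal.{u}) ≤ Algebra.trdeg k R := by
    have h := ((MvPolynomial.algebraicIndependent_X (Fin s) k).map' hg).lift_cardinalMk_le_trdeg
    simpa using h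
  refine le_trans ?_ hs
  let x : ULift.{u} (Fin s) → L ⊗[k] R := fun i => 1 ⊗ₜ g (X i.down)
  let S := Algebra.adjoin L (Set.range x)
  haveI : Algebra.IsAlgebraic S (L ⊗[k] R) := by
    suffices h : ∀ z, IsIntegral S (z : L ⊗[k] R) from ⟨fun z => (h z).isAlgebraic⟩
    intro z
    induction z using TensorProduct.induction_on with
    | zero => exact isIntegral_zero
    | tmul l r =>
      have hg' : ∀ p : MvPolynomial (Fin s) k, (1 ⊗ₜ g p : L ⊗[k] R) ∈ S := fun p => by
        induction p using MvPolynomial.induction_on with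
        | C c =>
          rw [show g (C c) = algebraMap k R c from g.commutes c, Algebra.algebraMap_eq_smul_one,
            TensorProduct.tmul_smul, ← algebraMap_smul L c]
          exact S.smul_mem S.one_mem _
        | add p q hp hq => rw [map_add, TensorProduct.tmul_add]; exact add_mem hp hq
        | mul_X p i hp =>
          rw [map_mul, show (1 ⊗ₜ (g p * g (X i)) : L ⊗[k] R) = (1 ⊗ₜ g p) * (1 ⊗ₜ g (X i)) by simp]
          exact mul_mem hp (Algebra.subset_adjoin ⟨⟨i⟩, rfl⟩)
      have hr : IsIntegral S (1 ⊗ₜ r : L ⊗[k] R) := by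
        obtain ⟨P, hP, hPr⟩ := hgi r
        let θ : MvPolynomial (Fin s) k →+* S :=
          ((Algebra.TensorProduct.includeRight.comp g : MvPolynomial (Fin s) k →ₐ[k] L ⊗[k] R).toRingHom).codRestrict
            S.toSubring hg'
        refine ⟨P.map θ, hP.map θ, ?_⟩
        rw [Polynomial.eval₂_map]
        have := congrArg (Algebra.TensorProduct.includeRight : R →ₐ[k] L ⊗[k] R) hPr
        rw [map_zero, ← AlgHom.coe_toRingHom, Polynomial.hom_eval₂] at this
        exact this
      rw [show (l ⊗ₜ r : L ⊗[k] R) = algebraMap S (L ⊗[k] R) (algebraMap L S l) * (1 ⊗ₜ r) by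
        rw [← IsScalarTower.algebraMap_apply, Algebra.TensorProduct.algebraMap_apply]; simp]
      exact isIntegral_algebraMap.mul hr
    | add a b ha hb => exact ha.add hb
  refine (Algebra.IsAlgebraic.trdeg_le_cardinalMk (R := L) (s := Set.range x)).trans ?_
  exact (Cardinal.mk_range_le).trans_eq (by simp)

end Trdeg

end Groth.Agent.Chevalley25
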