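import Groth.Agent.Lib.Chevalley25.Coeff
import Groth.Agent.Lib.Chevalley25.ClosureSubgroup
import Groth.Agent.Lib.AffGrp19.Main
import Groth.Agent.Lib.VarDim.Top
import Groth.Agent.Lib.VarDim.Irred

/-!
# The stabiliser of a boundary point is affine of positive dimension
-/

set_option autoImplicit false
set_option linter.style.haveILetI false
set_option backward.isDefEq.respectTransparency false
set_option synthInstance.maxHeartbeats 400000

universe u

open CategoryTheory CategoryTheory.Limits MonoidalCategory CartesianMonoidalCategory MonObj AlgebraicGeometry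
open TensorProduct Filter
open scoped GrpObj nonZeroDivisors

noncomputable section

namespace Groth.Agent.Chevalley25

open WeilRes21

theorem finite_of_dim_nonpos {X : Scheme.{u}} [TopologicalSpace.NoetherianSpace X]
    (h : topologicalKrullDim X ≤ 0) : Finite X := by
  have hmax : ∀ x y : X, y ⤳ x → x = y := fun x y hs => by
    by_contra hne
    have hlt : x < y := VarDim.lt_of_specializes_ne hs hne
    rw [VarDim.scheme_dim_eq_iSup_height, iSup_le_iff] at h
    have h1 : Order.height y ≤ 0 := WithBot.coe_le_coe.1 (h y)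
    exact absurd (Order.height_eq_zero.1 (nonpos_iff_eq_zero.1 h1) hlt.le) hlt.not_ge
  have hfin := TopologicalSpace.NoetherianSpace.finite_irreducibleComponents (α := X)
  have hsub : ∀ C ∈ irreducibleComponents X, C.Subsingleton := fun C hC => by
    have hirr : IsIrreducible C := hC.1
    intro a ha b hb
    have hcl := isClosed_of_mem_irreducibleComponents C hC
    have hg := hirr.isGenericPoint_genericPoint hcl
    rw [hmax a _ (hg.specializes ha), hmax b _ (hg.specializes hb)]
  have : (Set.univ : Set X).Finite := by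
    rw [← sUnion_irreducibleComponents]
    exact hfin.sUnion fun C hC => (hsub C hC).finite
  exact Set.finite_univ_iff.1 this

theorem comp_specOver_point {k : Type u} [Field k] {T : Over (Spec (CommRingCat.of k))}
    (ep : 𝟙_ (Over (Spec (CommRingCat.of k))) ⟶ T) :
    toPt (𝟙_ (Over (Spec (CommRingCat.of k)))) ≫ toUnit _ ≫ ep = ep := by
  rw [← Category.assoc, toUnit_unique (toPt _ ≫ toUnit _) (𝟙 _), Category.id_comp]

variable {k : Type u} [Field k] [IsAlgClosed k]
variable {G : Over (Spec (CommRingCat.of k))} [GrpObj G] [AlgebraicGeometry.IsIntegral G.left]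
  [LocallyOfFiniteType G.hom] [QuasiCompact G.hom] [IsSeparated G.hom]
  {R : Type u} [CommRing R] [IsDomain R] [Algebra k R] [Algebra.FiniteType k R]
  (iU : specOver k R ⟶ G) [IsOpenImmersion iU.left]
  {L : Type u} [Field L] [Algebra k L] [Algebra R L] [IsScalarTower k R L] [IsFractionRing R L]

omit [IsSeparated G.hom] [LocallyOfFiniteType G.hom] [QuasiCompact G.hom] [Algebra.FiniteType k R] in
theorem ptIm_pt (g : R →ₐ[k] k) : ptIm (pt iU g) = iU.left ⟨RingHom.ker g.toRingHom, RingHom.ker_isPrime _⟩ := by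
  show iU.left _ = _
  congr 1
  apply PrimeSpectrum.ext
  show (IsLocalRing.maximalIdeal k).comap g.toRingHom = _
  rw [IsLocalRing.maximalIdeal_eq_bot]
  rfl

omit [QuasiCompact G.hom] [IsSeparated G.hom] [Algebra.FiniteType k R] [IsDomain R] in
theorem lam_injective {h h' : specOver k k ⟶ G} (e : cst (specOver k L) h = cst (specOver k L) h') : h = h' := by
  refine ptIm_injective ?_
  have := congrArg (fun f : specOver k L ⟶ G => f.left (IsLocalRing.closedPoint L)) e
  simp only [cst, Over.comp_left, Scheme.Hom.comp_apply, left_apply] at this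
  exact this

include iU in
set_option maxHeartbeats 3200000 in
/-- A non-proper connected group has an affine closed smooth subgroup of positive dimension. -/
theorem exists_affine_subgroup (hG : ¬ IsProper G.hom) :
    ∃ (Γ : Over (Spec (CommRingCat.of k))) (_ : GrpObj Γ) (i : Γ ⟶ G), IsMonHom i ∧ IsClosedImmersion i.left ∧
      Smooth Γ.hom ∧ IsAffine Γ.left ∧ 0 < topologicalKrullDim Γ.left := by
  classical
  let L := FractionRing R
  obtain ⟨n, hn⟩ : ∃ n : ℕ, Algebra.trdeg k L = n :=
    ⟨VarDim.tdeg k R, (trdeg_fractionRing (k := k) (A := R) (E := L)).trans (VarDim.trdeg_eq_tdeg k R)⟩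
  obtain ⟨B, P, w, s, d, hft, hfr, hdim, hP, hdP, hw, hgood, hform⟩ := exists_stab_data iU (L := L) hG hn
  haveI := hft; haveI := hfr
  choose N A hA using hform
  let θw := theta d w
  let θs := theta d s
  choose hs0 d' hd'P hd'rel using hgood
  -- formula for the action
  have hres : ∀ (g : R →ₐ[k] k), g θw ≠ 0 → ∀ b : B,
      Res d (lam iU L (pt iU g) b) (g (theta d (A b)) / g θs ^ N b) := fun g hg b =>
    ⟨spB B g (A b), spB B g s ^ N b, by rw [map_pow, apply_spB]; exact pow_ne_zero _ (hs0 g hg), by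
      rw [SubmonoidClass.coe_pow]; exact hA b g d (by rw [apply_spB]; exact hs0 g hg), by
      rw [map_pow, apply_spB, apply_spB, div_mul_cancel₀ _ (pow_ne_zero _ (hs0 g hg))]⟩
  have hd' : ∀ (g : R →ₐ[k] k) (hg : g θw ≠ 0) (b : B), d' g hg b = g (theta d (A b)) / g θs ^ N b := fun g hg b =>
    ((hd'rel g hg _ _).1 (res_coe (d' g hg) b)).unique (hres g hg b)
  -- an infinite fibre
  have hu : θw * θs ≠ 0 := by
    obtain ⟨g, hg⟩ := (eventually_ne (k := k) hw).exists
    exact fun h0 => mul_ne_zero hg (hs0 g hg) (by rw [← map_mul, h0, map_zero])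
  let S := Localization.Away (θw * θs)
  have hSle : Submonoid.powers (θw * θs) ≤ R⁰ := powers_le_nonZeroDivisors_of_noZeroDivisors hu
  haveI : IsDomain S := IsLocalization.isDomain_of_le_nonZeroDivisors (M := Submonoid.powers (θw * θs)) S hSle
  haveI : Algebra.FiniteType k S :=
    (inferInstance : Algebra.FiniteType k R).trans (IsLocalization.finiteType_of_monoid_fg (Submonoid.powers (θw * θs)) S)
  have hgS : ∀ g' : S →ₐ[k] k, (g'.comp (IsScalarTower.toAlgHom k R S)) θw ≠ 0 := fun g' h0 => by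
    have := ((IsLocalization.Away.algebraMap_isUnit (S := S) (θw * θs)).map g').ne_zero
    rw [map_mul, map_mul] at this
    exact left_ne_zero_of_mul this h0
  obtain ⟨us, hus⟩ : IsUnit (algebraMap R S θs) := by
    have := IsLocalization.Away.algebraMap_isUnit (S := S) (θw * θs)
    rw [map_mul] at this
    exact isUnit_of_mul_isUnit_right this
  let ψf : B → S := fun b => algebraMap R S (theta d (A b)) * ↑(us⁻¹ ^ N b)
  have hψ : ∀ (b : B) (g' : S →ₐ[k] k), g' (ψf b) = d' (g'.comp (IsScalarTower.toAlgHom k R S)) (hgS g') b := fun b g' => by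
    rw [hd', map_mul, Units.val_pow_eq_pow_val, map_pow]
    show _ * _ = g' (algebraMap R S _) / g' (algebraMap R S θs) ^ N b
    rw [div_eq_mul_inv, ← inv_pow]
    congr 2
    refine eq_inv_of_mul_eq_one_left ?_
    rw [← map_mul, ← hus, Units.inv_mul, map_one]
  have hext : ∀ x y : S, (∀ g' : S →ₐ[k] k, g' x = g' y) → x = y := fun x y h =>
    sub_eq_zero.1 (GeomIrr.eq_zero_of_forall_algHom (k := k) fun g' => by rw [map_sub, h g', sub_self])
  let ψ : B →ₐ[k] S :=
    { toFun := ψf
      map_one' := hext _ _ fun g' => by rw [hψ, map_one, map_one]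
      map_zero' := hext _ _ fun g' => by rw [hψ, map_zero, map_zero]
      map_mul' := fun a b => hext _ _ fun g' => by rw [hψ, map_mul g', hψ, hψ, map_mul]
      map_add' := fun a b => hext _ _ fun g' => by rw [hψ, map_add g', hψ, hψ, map_add]
      commutes' := fun c => hext _ _ fun g' => by rw [hψ, AlgHom.commutes, AlgHom.commutes] }
  have hψP : ∀ p ∈ P, ψ p = 0 := fun p hp => hext _ _ fun g' => by
    show g' (ψf p) = _
    rw [hψ, map_zero, hd'P _ _ p hp]
  have htr : Algebra.trdeg k ψ.range < Algebra.trdeg k S := by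
    let χ : (B ⧸ P) →ₐ[k] ψ.range := Ideal.Quotient.liftₐ P ψ.rangeRestrict fun p hp => Subtype.ext (hψP p hp)
    have hχ : Function.Surjective χ := fun x => by
      obtain ⟨b, hb⟩ := ψ.rangeRestrict_surjective x
      exact ⟨Ideal.Quotient.mk P b, hb⟩
    have h1 : Algebra.trdeg k ψ.range ≤ Algebra.trdeg k (B ⧸ P) := trdeg_le_of_surjective χ hχ
    rw [VarDim.trdeg_eq_tdeg k (B ⧸ P)] at h1
    refine lt_of_le_of_lt h1 (lt_of_lt_of_le (Nat.cast_lt.2 hdim) ?_)
    rw [← hn, trdeg_fractionRing (k := k) (A := R) (E := L)]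
    exact trdeg_le_of_injective (IsScalarTower.toAlgHom k R S) (IsLocalization.injective S hSle)
  obtain ⟨d₁, hinf⟩ := exists_infinite_fibre ψ htr
  let Fset : Set (R →ₐ[k] k) := {g | ∃ hg : g θw ≠ 0, d' g hg = d₁}
  have hFinf : Fset.Infinite := by
    haveI := hinf.to_subtype
    refine Set.infinite_of_injective_forall_mem
      (f := fun g' : {g' : S →ₐ[k] k | g'.comp ψ = d₁} => g'.1.comp (IsScalarTower.toAlgHom k R S))
      (fun a b hab => Subtype.ext (IsLocalization.algHom_ext (Submonoid.powers (θw * θs)) hab)) fun g' =>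
        ⟨hgS g'.1, AlgHom.ext fun b => by rw [← hψ]; exact AlgHom.congr_fun g'.2 b⟩
  obtain ⟨g₁, hg₁w, hg₁⟩ := hFinf.nonempty
  -- the stabiliser
  let H : Subgroup (specOver k k ⟶ G) :=
    { carrier := {h | ∀ l x, Res d l x ↔ Res d (lam iU L h l) x}
      one_mem' := fun l x => by rw [lam_one]; rfl
      mul_mem' := fun {a b} ha hb l x => by rw [lam_mul, AlgHom.comp_apply]; exact (ha l x).trans (hb _ x)
      inv_mem' := fun {a} ha l x => by
        have := (ha (lam iU L a⁻¹ l) x)
        rw [lam_lam_inv] at this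
        exact this.symm }
  obtain ⟨Γ, _, i, him, hic, hΓred, hΓsm, hrange⟩ := exists_closure_subgroup (G := G) H
  haveI := him; haveI := hic; haveI := hΓred; haveI := hΓsm
  haveI : LocallyOfFiniteType Γ.hom := by rw [← Over.w i]; infer_instance
  haveI : QuasiCompact Γ.hom := by rw [← Over.w i]; infer_instance
  haveI : JacobsonSpace Γ.left := LocallyOfFiniteType.jacobsonSpace Γ.hom
  haveI : IsSeparated Γ.hom := by rw [← Over.w i]; infer_instance
  let K : (specOver k k ⟶ G) → Prop := fun k₀ => ∀ l x, Res d l x ↔ Res d₁ (lam iU L k₀ l) x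
  have hKg₁ : ∀ h ∈ H, K (h * (pt iU g₁)⁻¹) := fun h hh l x => by
    rw [lam_mul, AlgHom.comp_apply]
    refine (hh l x).trans ?_
    have := hd'rel g₁ hg₁w (lam iU L (pt iU g₁)⁻¹ (lam iU L h l)) x
    rw [hg₁, lam_lam_inv] at this
    exact this.symm
  have hKmem : ∀ k₀, K k₀ → ∀ (g : R →ₐ[k] k) (hg : g θw ≠ 0), d' g hg = d₁ → k₀ * pt iU g ∈ H := by
    intro k₀ hk₀ g hg he l x
    rw [lam_mul, AlgHom.comp_apply, hk₀, ← he]
    exact hd'rel g hg _ _
  have hKmem' : ∀ k₀, K k₀ → ∀ (g : R →ₐ[k] k) (hg : g θw ≠ 0), k₀ * pt iU g ∈ H → d' g hg = d₁ := by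
    intro k₀ hk₀ g hg hh
    refine rel_unique (hd'rel g hg) fun l x => ?_
    have h1 := hh (lam iU L k₀⁻¹ l) x
    rw [lam_mul, AlgHom.comp_apply, lam_lam_inv] at h1
    have h2 := hk₀ (lam iU L k₀⁻¹ l) x
    rw [lam_lam_inv] at h2
    exact h2.symm.trans h1
  have hpt : ∀ (k₀ : specOver k k ⟶ G) (g : R →ₐ[k] k), specMap g ≫ iU ≫ tau k₀ = k₀ * pt iU g := fun k₀ g => by
    rw [← Category.assoc, comp_tau, cst_self]
  -- rational points of the closure
  have hclos : ∀ k₀, K k₀ → ∀ g : R →ₐ[k] k, g θw ≠ 0 → ptIm (k₀ * pt iU g) ∈ closure (ptSet H) →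
      k₀ * pt iU g ∈ H := by
    intro k₀ hk₀ g hg hcl
    refine hKmem k₀ hk₀ g hg (AlgHom.ext fun b => ?_)
    rw [hd']
    by_contra hne
    have hf : g (theta d (A b) - algebraMap k R (d₁ b) * θs ^ N b) ≠ 0 := by
      rw [map_sub, map_mul, map_pow, AlgHom.commutes, Algebra.algebraMap_self_apply]
      intro h0
      exact hne (by rw [sub_eq_zero.1 h0, mul_div_cancel_right₀ _ (pow_ne_zero _ (hs0 g hg))])
    let φ : specOver k R ⟶ G := iU ≫ tau k₀
    let x : PrimeSpectrum R := ⟨RingHom.ker g.toRingHom, RingHom.ker_isPrime _⟩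
    have hx : φ.left x = ptIm (k₀ * pt iU g) := by
      rw [← hpt]
      show (tau k₀).left (iU.left x) = (tau k₀).left (iU.left _)
      rw [← ptIm_pt]; rfl
    have hmem : x ∈ closure (φ.left ⁻¹' ptSet H) := by
      rw [← φ.left.isOpenEmbedding.isOpenMap.preimage_closure_eq_closure_preimage φ.left.continuous]
      show φ.left x ∈ closure (ptSet H)
      rw [hx]; exact hcl
    obtain ⟨z, hz, h', hh', hzh⟩ := mem_closure_iff.1 hmem
      (PrimeSpectrum.basicOpen (θw * (theta d (A b) - algebraMap k R (d₁ b) * θs ^ N b)) : Set (PrimeSpectrum R))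
      (PrimeSpectrum.basicOpen _).2 (by
        show ¬ g (θw * _) = 0
        rw [map_mul]; exact mul_ne_zero hg hf)
    obtain ⟨g', hg', hker⟩ := exists_factor φ h' z hzh
    have hne' : g' (θw * (theta d (A b) - algebraMap k R (d₁ b) * θs ^ N b)) ≠ 0 := fun h0 => hz (hker ▸ h0)
    rw [map_mul, mul_ne_zero_iff] at hne'
    obtain ⟨hgw', hgf'⟩ := hne'
    apply hgf'
    have h1 : k₀ * pt iU g' ∈ H := by rw [← hpt]; exact hg'.symm ▸ hh'
    have h2 := AlgHom.congr_fun (hKmem' k₀ hk₀ g' hgw' h1) b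
    rw [hd'] at h2
    rw [map_sub, map_mul, map_pow, AlgHom.commutes, Algebra.algebraMap_self_apply, ← h2,
      div_mul_cancel₀ _ (pow_ne_zero _ (hs0 g' hgw')), sub_self]
  -- charts cover the closure
  have hcover : ∀ h : specOver k k ⟶ G, ptIm h ∈ closure (ptSet H) → ∃ k₀, K k₀ ∧ ∃ g : R →ₐ[k] k, g θw ≠ 0 ∧
      k₀ * pt iU g = h := by
    intro h hcl
    obtain ⟨z, hz⟩ : ptIm h ∈ Set.range i.left := hrange ▸ hcl
    have hzc : IsClosed ({z} : Set Γ.left) := by
      have : ({z} : Set Γ.left) = i.left ⁻¹' {ptIm h} := by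
        ext y
        refine ⟨fun hy => by rw [Set.mem_singleton_iff.1 hy]; exact hz, fun hy => i.left.isClosedEmbedding.injective (hy.trans hz.symm)⟩
      rw [this]
      exact (isClosed_ptIm h).preimage i.left.continuous
    obtain ⟨ep, hep⟩ := exists_ptIm hzc
    have heph : ep ≫ i = h := ptIm_injective (by rw [ptIm_comp, hep, hz])
    have hinvcl : ptIm h⁻¹ ∈ closure (ptSet H) := by
      rw [← hrange, ← heph, ← GrpObj.inv_comp, ptIm_comp]
      exact ⟨_, rfl⟩
    let m : G ⟶ G := cst G (pt iU g₁) * 𝟙 G * cst G h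
    have hm : ∀ y : specOver k k ⟶ G, y ≫ m = pt iU g₁ * y * h := fun y => by
      rw [MonObj.comp_mul, MonObj.comp_mul, comp_cst, comp_cst, cst_self, cst_self, Category.comp_id]
    let D : Set G.left := iU.left '' (PrimeSpectrum.basicOpen θw : Set (PrimeSpectrum R))
    have hD : IsOpen (m.left ⁻¹' D) :=
      (iU.left.isOpenEmbedding.isOpenMap _ (PrimeSpectrum.basicOpen θw).2).preimage m.left.continuous
    obtain ⟨_, hyD, h₀, hh₀, rfl⟩ := mem_closure_iff.1 hinvcl _ hD (by
      show m.left (ptIm h⁻¹) ∈ D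
      rw [← ptIm_comp, hm, inv_mul_cancel_right, ptIm_pt]
      exact ⟨_, hg₁w, rfl⟩)
    obtain ⟨x, hx, hxe⟩ := hyD
    change iU.left x = m.left (ptIm h₀) at hxe
    rw [← ptIm_comp, hm] at hxe
    obtain ⟨g, hg, hker⟩ := exists_factor iU (pt iU g₁ * h₀ * h) x hxe.symm
    refine ⟨h₀⁻¹ * (pt iU g₁)⁻¹, hKg₁ _ (H.inv_mem hh₀), g, fun h0 => hx (hker ▸ h0), ?_⟩
    show _ * (specMap g ≫ iU) = h
    rw [hg]
    group
  have hpoints : ∀ ep : specOver k k ⟶ Γ, ep ≫ i ∈ H := fun ep => by
    have hcl : ptIm (ep ≫ i) ∈ closure (ptSet H) := by rw [ptIm_comp, ← hrange]; exact ⟨_, rfl⟩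
    obtain ⟨k₀, hk₀, g, hg, he⟩ := hcover _ hcl
    rw [← he] at hcl ⊢
    exact hclos k₀ hk₀ g hg hcl
  -- matrix coefficients
  have hcoeff : ∀ (b : B) (n : ℕ) (ℓ : Jet d n →ₗ[k] k), ∃ c : Γ ⟶ specOver k (Polynomial k),
      ∀ ep : specOver k k ⟶ Γ, ∃ q, ResI d n (lam iU L (ep ≫ i) b) q ∧ algHomEquiv (ep ≫ c) Polynomial.X = ℓ q := by
    intro b n ℓ
    have hval : ∀ ep : specOver k k ⟶ Γ, ∃ q, ResI d n (lam iU L (ep ≫ i) b) q := fun ep =>
      exists_resI ((hpoints ep _ _).1 (res_coe d b)) n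
    choose val hval using hval
    suffices ∃ c : Γ ⟶ specOver k (Polynomial k), ∀ ep : specOver k k ⟶ Γ,
        algHomEquiv (ep ≫ c) Polynomial.X = ℓ (val ep) by
      obtain ⟨c, hc⟩ := this
      exact ⟨c, fun ep => ⟨val ep, hval ep, hc ep⟩⟩
    -- local pieces
    have hloc : ∀ k₀ : {k₀ // K k₀}, ∃ (V : Γ.left.Opens) (c : Over.mk (V.ι ≫ Γ.hom) ⟶ specOver k (Polynomial k)),
        (∀ ep : specOver k k ⟶ Γ, ∀ g : R →ₐ[k] k, g θw ≠ 0 → k₀.1 * pt iU g = ep ≫ i → ptIm ep ∈ V) ∧
        ∀ p : specOver k k ⟶ Over.mk (V.ι ≫ Γ.hom),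
          algHomEquiv (p ≫ c) Polynomial.X = ℓ (val (p ≫ Over.homMk V.ι rfl)) := by
      rintro ⟨k₀, hk₀⟩
      obtain ⟨a, c, hc, eac, -⟩ := (hk₀ _ _).1 (res_coe d b)
      let num : B ⊗[k] R := A a * s ^ N c
      let den : B ⊗[k] R := A c * s ^ N a
      let t : R := θw * θs
      obtain ⟨f, hf⟩ := exists_regular_jet d n num den t ℓ
      let u := t * theta d den
      let S' := Localization.Away u
      let φ : specOver k R ⟶ G := iU ≫ tau k₀
      let φ' : specOver k S' ⟶ G := specMap (IsScalarTower.toAlgHom k R S') ≫ φ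
      haveI : IsOpenImmersion φ'.left := by
        haveI : IsOpenImmersion (Spec.map (CommRingCat.ofHom (algebraMap R S'))) := IsOpenImmersion.of_isLocalization u
        exact inferInstanceAs (IsOpenImmersion (Spec.map (CommRingCat.ofHom (algebraMap R S')) ≫ φ.left))
      let V : Γ.left.Opens := ⟨i.left ⁻¹' Set.range φ'.left, φ'.left.isOpenEmbedding.isOpen_range.preimage i.left.continuous⟩
      let incl : Over.mk (V.ι ≫ Γ.hom) ⟶ Γ := Over.homMk V.ι rfl
      have hr : Set.range (V.ι ≫ i.left) ⊆ Set.range φ'.left := by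
        rintro _ ⟨v, rfl⟩
        exact (show V.ι v ∈ i.left ⁻¹' Set.range φ'.left from v.2)
      let q : Over.mk (V.ι ≫ Γ.hom) ⟶ specOver k S' := Over.homMk (IsOpenImmersion.lift φ'.left (V.ι ≫ i.left) hr) (by
        rw [← Over.w φ', IsOpenImmersion.lift_fac_assoc, Category.assoc, Over.w i]
        rfl)
      have hq : q ≫ φ' = incl ≫ i := Over.OverMorphism.ext (IsOpenImmersion.lift_fac _ _ hr)
      refine ⟨V, q ≫ specMap (Polynomial.aeval f), fun ep g hg he => ?_, fun p => ?_⟩
      · have hd1 : d' g hg = d₁ := hKmem' k₀ hk₀ g hg (he ▸ hpoints ep)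
        have hden : g (theta d den) ≠ 0 := by
          simp only [den, map_mul, map_pow]
          refine mul_ne_zero (fun h0 => hc ?_) (pow_ne_zero _ (hs0 g hg))
          rw [← hd1, hd', h0, zero_div]
        have hunit : IsUnit (g u) := (mul_ne_zero (by rw [map_mul]; exact mul_ne_zero hg (hs0 g hg)) hden : g t * g (theta d den) ≠ 0)
          |> fun h => IsUnit.mk0 _ (by rw [map_mul]; exact h)
        let g' : S' →ₐ[k] k := IsLocalization.liftAlgHom (M := Submonoid.powers u) (f := g) (fun y => by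
          obtain ⟨m, hm⟩ := y.2
          rw [← hm, map_pow]
          exact hunit.pow m)
        have hg' : specMap g' ≫ φ' = ep ≫ i := by
          rw [← he, ← hpt, ← Category.assoc, specMap_comp]
          congr 2
          ext r
          exact IsLocalization.lift_eq _ r
        show i.left (ptIm ep) ∈ Set.range φ'.left
        rw [← ptIm_comp, ← hg', ptIm_comp]
        exact ⟨_, rfl⟩
      · let g' : S' →ₐ[k] k := algHomEquiv (p ≫ q)
        have hg' : specMap g' = p ≫ q := algHomEquiv.symm_apply_apply _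
        let g : R →ₐ[k] k := g'.comp (IsScalarTower.toAlgHom k R S')
        have hp : k₀ * pt iU g = (p ≫ incl) ≫ i := by
          rw [← hpt, show specMap g = specMap g' ≫ specMap (IsScalarTower.toAlgHom k R S') from (specMap_comp _ _).symm,
            Category.assoc, hg']
          show (p ≫ q) ≫ φ' = _
          rw [Category.assoc, hq, Category.assoc]
        have hgu : g u ≠ 0 := ((IsLocalization.Away.algebraMap_isUnit (S := S') u).map g').ne_zero
        simp only [u, t, map_mul, mul_ne_zero_iff] at hgu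
        obtain ⟨⟨hgw, hgs⟩, hgden⟩ := hgu
        obtain ⟨q₀, hq₀, hfq⟩ := hf g' g rfl
        have hq₀' : ResI d n (lam iU L ((p ≫ incl) ≫ i) b) q₀ := by
          refine ⟨spB B g num, spB B g den, by rw [apply_spB]; exact hgden, ?_, hq₀⟩
          rw [← hp, lam_mul, AlgHom.comp_apply]
          have ha := hA a g d (by rw [apply_spB]; exact hgs)
          have hc' := hA c g d (by rw [apply_spB]; exact hgs)
          simp only [num, den, map_mul, map_pow, Subalgebra.coe_mul, SubmonoidClass.coe_pow]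
          rw [← ha, ← hc', ← eac, map_mul]
          ring
        rw [(hval (p ≫ incl)).unique hq₀', ← hfq, ← Category.assoc, ← hg', specMap_comp,
          ← algHomEquiv_symm_apply, Equiv.apply_symm_apply, AlgHom.comp_apply, Polynomial.aeval_X]
    choose V c hV hc using hloc
    have hcov : TopologicalSpace.IsOpenCover V := by
      rw [TopologicalSpace.IsOpenCover, eq_top_iff]
      intro y _
      by_contra hy
      have hne : ((↑(⨆ k₀, V k₀) : Set Γ.left)ᶜ ∩ closedPoints Γ.left).Nonempty :=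
        nonempty_inter_closedPoints ⟨y, hy⟩ (TopologicalSpace.Opens.isOpen _).isClosed_compl.isLocallyClosed
      obtain ⟨x, hx, hxc⟩ := hne
      obtain ⟨ep, rfl⟩ := exists_ptIm hxc
      obtain ⟨k₀, hk₀, g, hg, he⟩ := hcover (ep ≫ i) (by rw [ptIm_comp, ← hrange]; exact ⟨_, rfl⟩)
      exact hx (TopologicalSpace.Opens.mem_iSup.2 ⟨⟨k₀, hk₀⟩, hV ⟨k₀, hk₀⟩ ep g hg he⟩)
    let 𝒰 := Γ.left.openCoverOfIsOpenCover V hcov
    have hcompat : ∀ a a', pullback.fst (𝒰.f a) (𝒰.f a') ≫ (c a).left = pullback.snd _ _ ≫ (c a').left := by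
      intro a a'
      let W : Over (Spec (CommRingCat.of k)) := Over.mk (pullback.fst (𝒰.f a) (𝒰.f a') ≫ (V a).ι ≫ Γ.hom)
      let p₁ : W ⟶ Over.mk ((V a).ι ≫ Γ.hom) := Over.homMk (pullback.fst _ _) rfl
      let p₂ : W ⟶ Over.mk ((V a').ι ≫ Γ.hom) := Over.homMk (pullback.snd _ _) (by
        show pullback.snd _ _ ≫ 𝒰.f a' ≫ Γ.hom = pullback.fst _ _ ≫ 𝒰.f a ≫ Γ.hom
        rw [pullback.condition_assoc])
      haveI : IsOpenImmersion (pullback.fst (𝒰.f a) (𝒰.f a')) := inferInstance
      haveI : IsReduced W.left := isReduced_of_isOpenImmersion (pullback.fst (𝒰.f a) (𝒰.f a') ≫ (V a).ι)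
      haveI : LocallyOfFiniteType W.hom :=
        inferInstanceAs (LocallyOfFiniteType (pullback.fst (𝒰.f a) (𝒰.f a') ≫ (V a).ι ≫ Γ.hom))
      haveI : LocallyOfFiniteType ((p₁ ≫ c a).left ≫ (specOver k (Polynomial k)).hom) := by
        rw [Over.w]; infer_instance
      haveI : LocallyOfFiniteType (specOver k (Polynomial k)).hom := by
        rw [show (specOver k (Polynomial k)).hom = Spec.map (CommRingCat.ofHom (algebraMap k (Polynomial k))) from rfl,
          HasRingHomProperty.Spec_iff (P := @LocallyOfFiniteType)]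
        exact RingHom.finiteType_algebraMap.2 inferInstance
      haveI : IsSeparated (specOver k (Polynomial k)).hom := inferInstance
      show (p₁ ≫ c a).left = (p₂ ≫ c a').left
      refine ext_of_apply_eq (f := (p₁ ≫ c a).left) (g := (p₂ ≫ c a').left) (specOver k (Polynomial k)).hom
        Set.univ isOpen_univ.isLocallyClosed dense_univ (fun x _ hx => ?_) (by rw [Over.w, Over.w])
      obtain ⟨p, rfl⟩ := exists_ptIm (G := W) hx
      rw [← ptIm_comp, ← ptIm_comp]
      congr 1
      apply algHomEquiv.injective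
      refine Polynomial.algHom_ext ?_
      rw [← Category.assoc, ← Category.assoc, hc a (p ≫ p₁), hc a' (p ≫ p₂)]
      congr 2
      simp only [Category.assoc]
      congr 1
      apply Over.OverMorphism.ext
      exact pullback.condition
    let c₀ : Γ.left ⟶ (specOver k (Polynomial k)).left := 𝒰.glueMorphisms (fun a => (c a).left) hcompat
    let cΓ : Γ ⟶ specOver k (Polynomial k) := Over.homMk c₀ (by
      refine Scheme.Cover.hom_ext 𝒰 _ _ fun a => ?_
      rw [← Category.assoc, Scheme.Cover.ι_glueMorphisms]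
      exact Over.w (c a))
    refine ⟨cΓ, fun ep => ?_⟩
    obtain ⟨k₀, hk₀, g, hg, he⟩ := hcover (ep ≫ i) (by rw [ptIm_comp, ← hrange]; exact ⟨_, rfl⟩)
    have hmem := hV ⟨k₀, hk₀⟩ ep g hg he
    have hr : Set.range ep.left ⊆ Set.range (V ⟨k₀, hk₀⟩).ι := by
      rintro _ ⟨z, rfl⟩
      rw [left_apply, Scheme.Opens.range_ι]
      exact hmem
    let p : specOver k k ⟶ Over.mk ((V ⟨k₀, hk₀⟩).ι ≫ Γ.hom) := Over.homMk (IsOpenImmersion.lift _ ep.left hr) (by
      show IsOpenImmersion.lift _ ep.left hr ≫ (V ⟨k₀, hk₀⟩).ι ≫ Γ.hom = _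
      rw [IsOpenImmersion.lift_fac_assoc]
      exact Over.w ep)
    have hp : p ≫ Over.homMk (V ⟨k₀, hk₀⟩).ι rfl = ep := Over.OverMorphism.ext (IsOpenImmersion.lift_fac _ _ hr)
    have e : ep ≫ cΓ = p ≫ c ⟨k₀, hk₀⟩ := by
      apply Over.OverMorphism.ext
      conv_lhs => rw [← hp]
      show (p.left ≫ 𝒰.f ⟨k₀, hk₀⟩) ≫ c₀ = _
      rw [Category.assoc, Scheme.Cover.ι_glueMorphisms]
      rfl
    rw [e, hc ⟨k₀, hk₀⟩ p, hp]
  -- affineness
  refine ⟨Γ, inferInstance, i, him, hic, hΓsm, ?_, ?_⟩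
  · refine AffGrp19.isAffine_of_injective_points Γ fun ep ep' h => ?_
    rw [← comp_specOver_point ep, ← comp_specOver_point ep']
    congr 1
    have hh : (toUnit (specOver k k) ≫ ep) ≫ AffGrp19.toAff Γ = (toUnit (specOver k k) ≫ ep') ≫ AffGrp19.toAff Γ := by
      rw [Category.assoc, Category.assoc, h]
    generalize toUnit (specOver k k) ≫ ep = a at hh ⊢
    generalize toUnit (specOver k k) ≫ ep' = a' at hh ⊢
    have hlam : ∀ b : B, lam iU L (a ≫ i) b = lam iU L (a' ≫ i) b := fun b => by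
      refine eq_of_resI ((hpoints a _ _).1 (res_coe d b)) ((hpoints a' _ _).1 (res_coe d b)) fun n => ?_
      obtain ⟨q, hq⟩ := exists_resI ((hpoints a _ _).1 (res_coe d b)) n
      obtain ⟨q', hq'⟩ := exists_resI ((hpoints a' _ _).1 (res_coe d b)) n
      refine ⟨q, hq, ?_⟩
      suffices q = q' by rw [this]; exact hq'
      rw [← sub_eq_zero]
      refine (Module.forall_dual_apply_eq_zero_iff k _).1 fun ℓ => ?_
      obtain ⟨c, hc⟩ := hcoeff b n ℓ
      obtain ⟨q₁, h1, e1⟩ := hc a
      obtain ⟨q₂, h2, e2⟩ := hc a'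
      rw [map_sub, h1.unique hq |>.symm, h2.unique hq' |>.symm, ← e1, ← e2]
      obtain ⟨r, hr⟩ := (AffGrp19.good_toAff Γ).exists_desc c
      rw [← hr, ← Category.assoc, hh, Category.assoc, sub_self]
    have hLam : lam iU L (a ≫ i) = lam iU L (a' ≫ i) := AlgHom.coe_ringHom_injective
      (IsLocalization.ringHom_ext B⁰ (RingHom.ext hlam))
    have hcst := congrArg (fun φ : L →ₐ[k] L => specMap φ ≫ gen iU L) hLam
    simp only [lam_spec] at hcst
    haveI : Mono i := Over.mono_of_mono_left i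
    exact (cancel_mono i).1 (lam_injective (mul_right_cancel hcst))
  · by_contra hle
    rw [not_lt] at hle
    haveI : TopologicalSpace.NoetherianSpace Γ.left := VarDim.noetherianSpace_of_finiteType Γ.hom
    haveI := finite_of_dim_nonpos hle
    have hfinS : (ptSet H).Finite := (Set.finite_range i.left).subset (hrange ▸ subset_closure)
    refine hFinf (Set.Finite.of_finite_image (f := fun g => ptIm ((pt iU g₁)⁻¹ * pt iU g)) (hfinS.subset ?_) ?_)
    · rintro _ ⟨g, ⟨hg, he⟩, rfl⟩
      refine ⟨_, ?_, rfl⟩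
      have := hKg₁ 1 H.one_mem
      rw [_root_.one_mul] at this
      exact hKmem _ this g hg he
    · intro a _ b _ hab
      exact chart_injective iU (mul_left_cancel (ptIm_injective hab))

end Groth.Agent.Chevalley25
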