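import Groth.Agent.Lib.Chevalley25.Invariant
import Groth.Agent.Lib.Chevalley25.Fibre

/-!
# The partial action of the rational points on a boundary divisor
-/

set_option autoImplicit false
set_option linter.style.haveILetI false
set_option backward.isDefEq.respectTransparency false
set_option synthInstance.maxHeartbeats 400000

universe u

open CategoryTheory MonoidalCategory CartesianMonoidalCategory MonObj AlgebraicGeometry
open TensorProduct Filter
open scoped GrpObj nonZeroDivisors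

noncomputable section

namespace Groth.Agent.Chevalley25

open WeilRes21

section Res

variable {k : Type u} [Field k] {L : Type u} [Field L] [Algebra k L] {B : Subalgebra k L}

/-- The value of a rational function at a rational point of the model. -/
def Res (d : B →ₐ[k] k) (l : L) (x : k) : Prop := ∃ a c : B, d c ≠ 0 ∧ l * c = a ∧ d a = x * d c

variable {d : B →ₐ[k] k} {l l' : L} {x y : k}

theorem res_coe (d : B →ₐ[k] k) (b : B) : Res d (b : L) (d b) := ⟨b, 1, by simp, by simp, by simp⟩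

theorem coe_ne_zero {c : B} (hc : d c ≠ 0) : (c : L) ≠ 0 := fun h => hc (by
  rw [show c = 0 from Subtype.ext h, map_zero])

theorem Res.unique (h : Res d l x) (h' : Res d l y) : x = y := by
  obtain ⟨a, c, hc, e, ea⟩ := h
  obtain ⟨a', c', hc', e', ea'⟩ := h'
  have h1 : a * c' = a' * c := Subtype.ext (by push_cast; rw [← e, ← e']; ring)
  have h2 := congrArg d h1
  rw [map_mul, map_mul, ea, ea'] at h2
  exact mul_right_cancel₀ (mul_ne_zero hc hc') (by linear_combination h2)

theorem Res.add (h : Res d l x) (h' : Res d l' y) : Res d (l + l') (x + y) := by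
  obtain ⟨a, c, hc, e, ea⟩ := h
  obtain ⟨a', c', hc', e', ea'⟩ := h'
  exact ⟨a * c' + a' * c, c * c', by simp [hc, hc'], by push_cast; rw [← e, ← e']; ring,
    by simp only [map_add, map_mul, ea, ea']; ring⟩

theorem Res.mul (h : Res d l x) (h' : Res d l' y) : Res d (l * l') (x * y) := by
  obtain ⟨a, c, hc, e, ea⟩ := h
  obtain ⟨a', c', hc', e', ea'⟩ := h'
  exact ⟨a * a', c * c', by simp [hc, hc'], by push_cast; rw [← e, ← e']; ring,
    by simp only [map_mul, ea, ea']; ring⟩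

theorem Res.inv (h : Res d l x) (hx : x ≠ 0) : Res d l⁻¹ x⁻¹ := by
  obtain ⟨a, c, hc, e, ea⟩ := h
  have ha : d a ≠ 0 := by rw [ea]; exact mul_ne_zero hx hc
  have hl : l ≠ 0 := fun h0 => coe_ne_zero ha (by rw [← e, h0, zero_mul])
  exact ⟨c, a, ha, by rw [← e, inv_mul_cancel_left₀ hl], by rw [ea, inv_mul_cancel_left₀ hx]⟩

theorem Res.ne_zero (h : Res d l x) (hx : x ≠ 0) : l ≠ 0 := fun h0 => hx (by
  subst h0
  have h1 : Res d (0 : L) (0 : k) := ⟨0, 1, by simp, by simp, by simp⟩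
  exact h.unique h1)

/-- The rational point `d'` maps to `d` under an automorphism of the function field. -/
def Rel (φ : L →ₐ[k] L) (d d' : B →ₐ[k] k) : Prop := ∀ l x, Res d' l x ↔ Res d (φ l) x

theorem rel_unique {φ : L →ₐ[k] L} {d d₁ d₂ : B →ₐ[k] k} (h₁ : Rel φ d d₁) (h₂ : Rel φ d d₂) : d₁ = d₂ :=
  AlgHom.ext fun b => ((h₂ _ _).2 ((h₁ _ _).1 (res_coe d₁ b))).unique (res_coe d₂ b)

end Res

variable {k : Type u} [Field k] [IsAlgClosed k]
variable {G : Over (Spec (CommRingCat.of k))} [GrpObj G] [AlgebraicGeometry.IsIntegral G.left]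
  [LocallyOfFiniteType G.hom] [QuasiCompact G.hom] [IsSeparated G.hom]
  {R : Type u} [CommRing R] [IsDomain R] [Algebra k R] [Algebra.FiniteType k R]
  (iU : specOver k R ⟶ G) [IsOpenImmersion iU.left]
  {L : Type u} [Field L] [Algebra k L] [Algebra R L] [IsScalarTower k R L] [IsFractionRing R L]

/-- Regular functions on the product of the model and the chart. -/
def bmap (B : Subalgebra k L) : B ⊗[k] R →ₐ[k] L ⊗[k] R := Algebra.TensorProduct.map B.val (AlgHom.id k R)

/-- Specialisation in the first variable. -/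
def spB (B : Subalgebra k L) (g : R →ₐ[k] k) : B ⊗[k] R →ₐ[B] B :=
  Algebra.TensorProduct.lift (Algebra.ofId B B) ((Algebra.ofId k B).comp g) (fun _ _ => Commute.all _ _)

/-- Specialisation in the second variable. -/
def theta {B : Subalgebra k L} (d : B →ₐ[k] k) : B ⊗[k] R →ₐ[k] R :=
  Algebra.TensorProduct.lift ((Algebra.ofId k R).comp d) (AlgHom.id k R) (fun _ _ => Commute.all _ _)

omit [IsAlgClosed k] [IsDomain R] [Algebra.FiniteType k R] [Algebra R L] [IsScalarTower k R L] [IsFractionRing R L] in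
theorem bmap_smul {B : Subalgebra k L} (c : B) (y : B ⊗[k] R) : bmap B (c • y) = (c : L) • bmap B y := by
  induction y using TensorProduct.induction_on with
  | zero => simp
  | tmul b r => simp [bmap, TensorProduct.smul_tmul']
  | add a b ha hb => simp [ha, hb]

omit [IsAlgClosed k] [IsDomain R] [Algebra.FiniteType k R] [Algebra R L] [IsScalarTower k R L] [IsFractionRing R L] in
theorem coe_spB {B : Subalgebra k L} (g : R →ₐ[k] k) (x : B ⊗[k] R) : ((spB B g x : B) : L) = sp g (bmap B x) := by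
  induction x using TensorProduct.induction_on with
  | zero => simp
  | tmul b r => rfl
  | add a b ha hb => simp [ha, hb]

omit [IsAlgClosed k] [IsDomain R] [Algebra.FiniteType k R] [Algebra R L] [IsScalarTower k R L] [IsFractionRing R L] in
theorem apply_spB {B : Subalgebra k L} (g : R →ₐ[k] k) (d : B →ₐ[k] k) (x : B ⊗[k] R) :
    d (spB B g x) = g (theta d x) := by
  induction x using TensorProduct.induction_on with
  | zero => simp
  | tmul b r =>
    show d (algebraMap B B b * algebraMap k B (g r)) = g (algebraMap k R (d b) * r)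
    simp
  | add a b ha hb => simp [ha, hb]

set_option maxHeartbeats 1600000 in
/-- The stabilisation data of an invariant divisorial valuation. -/
theorem exists_stab_data (hG : ¬ IsProper G.hom) {n : ℕ} (hn : Algebra.trdeg k L = n) :
    ∃ (B : Subalgebra k L) (P : Ideal B) (w s : B ⊗[k] R) (d : B →ₐ[k] k),
      Algebra.FiniteType k B ∧ IsFractionRing B L ∧ VarDim.tdeg k (B ⧸ P) < n ∧ P.IsPrime ∧ (∀ p ∈ P, d p = 0) ∧
      theta d w ≠ 0 ∧
      (∀ g : R →ₐ[k] k, g (theta d w) ≠ 0 → g (theta d s) ≠ 0 ∧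
        ∃ d' : B →ₐ[k] k, (∀ p ∈ P, d' p = 0) ∧ Rel (lam iU L (pt iU g)) d d') ∧
      ∀ b : B, ∃ (N : ℕ) (A : B ⊗[k] R), ∀ g : R →ₐ[k] k, ∀ e : B →ₐ[k] k, e (spB B g s) ≠ 0 →
        lam iU L (pt iU g) b * (spB B g s : B) ^ N = (spB B g A : B) := by
  classical
  haveI : IsDomain (L ⊗[k] R) := isDomain_base
  let F := FractionRing (L ⊗[k] R)
  obtain ⟨V, hk, hVtop, hinv, hm, u, hu⟩ := exists_invariant (F := F) iU hG hn
  obtain ⟨sR, hsR⟩ := (‹Algebra.FiniteType k R›).out
  have hy : IntermediateField.adjoin k (algebraMap R L '' (sR : Set R)) = ⊤ := by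
    refine top_le_iff.1 fun x _ => ?_
    have hR : ∀ r : R, algebraMap R L r ∈ IntermediateField.adjoin k (algebraMap R L '' (sR : Set R)) := fun r => by
      have hT : (IntermediateField.adjoin k (algebraMap R L '' (sR : Set R))).toSubalgebra.comap
          (IsScalarTower.toAlgHom k R L) = ⊤ :=
        top_le_iff.1 (hsR ▸ Algebra.adjoin_le fun y hy => IntermediateField.subset_adjoin k _ ⟨y, hy, rfl⟩)
      exact (show r ∈ (IntermediateField.adjoin k (algebraMap R L '' (sR : Set R))).toSubalgebra.comap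
        (IsScalarTower.toAlgHom k R L) from hT ▸ Algebra.mem_top)
    obtain ⟨a, b, -, rfl⟩ := IsFractionRing.div_surjective R x
    exact div_mem (hR a) (hR b)
  obtain ⟨B, P, hft, hfr, hBV, hP, hPmem, hloc, hdim⟩ :=
    exists_model hn V hk _ ((sR.finite_toSet).image _) hy hVtop u hu
  haveI := hft; haveI := hfr; haveI := hP
  have hval1 : ∀ {b : B}, b ∉ P → V.valuation (b : L) = 1 := fun {b} hb =>
    le_antisymm ((V.valuation_le_one_iff _).2 (hBV _ b.2)) (not_lt.1 fun h => hb ((hPmem b).2 h))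
  -- elements of the generic value ring are quotients of regular functions
  have hrep : ∀ f : F, f ∈ gauss (R := R) V hk → ∃ A S : B ⊗[k] R,
      f * algebraMap _ F (bmap B S) = algebraMap _ F (bmap B A) ∧ ∀ᶠ g in Gen k R, spB B g S ∉ P := by
    intro f hf
    let Sm : Submodule k (L ⊗[k] R) :=
      { carrier := {x | ∃ q : B, q ∉ P ∧ ∃ z : B ⊗[k] R, (q : L) • x = bmap B z}
        zero_mem' := ⟨1, fun h => hP.ne_top ((Ideal.eq_top_iff_one P).2 h), 0, by simp⟩
        add_mem' := fun {a b} ⟨q, hq, z, hz⟩ ⟨q', hq', z', hz'⟩ =>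
          ⟨q * q', hP.mul_notMem hq hq', q' • z + q • z', by
            rw [map_add, bmap_smul, bmap_smul, ← hz, ← hz', smul_add, smul_smul, smul_smul, Subalgebra.coe_mul, mul_comm (q : L)]⟩
        smul_mem' := fun c x ⟨q, hq, z, hz⟩ => ⟨q, hq, c • z, by rw [smul_comm, hz, map_smul]⟩ }
    have hSm : ∀ (v : L) (r : R), v ∈ V → v ⊗ₜ r ∈ Sm := fun v r hv => by
      obtain ⟨a, b, hb, e⟩ := hloc v hv
      refine ⟨b, hb, a ⊗ₜ r, ?_⟩
      rw [TensorProduct.smul_tmul', smul_eq_mul, mul_comm, e]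
      rfl
    obtain ⟨a, s, ⟨qa, hqa, za, hza⟩, ⟨qs, hqs, zs, hzs⟩, e, hu'⟩ := exists_rep_of_mem_gauss hf Sm hSm
    refine ⟨qs • za, qa • zs, ?_, hu'.mono fun g ⟨hsV, hsu⟩ => ?_⟩
    · rw [bmap_smul, bmap_smul, ← hza, ← hzs, smul_smul, smul_smul, mul_comm (qa : L), Algebra.smul_def, map_mul, Algebra.smul_def,
        map_mul _ _ a, ← e]
      ring
    · intro hmem
      have h1 := (hPmem _).1 hmem
      rw [coe_spB, bmap_smul, ← hzs, smul_smul, map_smul, smul_eq_mul, map_mul, map_mul, hval1 hqa, hval1 hqs,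
        (V.valuation_eq_one_iff ⟨_, hsV⟩).1 hsu, _root_.mul_one, _root_.mul_one] at h1
      exact lt_irrefl _ h1
  -- common denominators for the translates of generators
  obtain ⟨sB, hsB⟩ := hft.out
  choose! A S hAS hSP using fun b : B => hrep (mHom iU L F b) ((hm b).2 (hBV _ b.2))
  obtain ⟨r₀, hr₀, hgood⟩ := exists_goodPt (L := L) (F := F) iU
  obtain ⟨r₁, hr₁, hinvPt⟩ := ev_iHom (L := L) (F := F) iU
  let s : B ⊗[k] R := (1 ⊗ₜ (r₀ * r₁)) * ∏ b ∈ sB, S b
  have hs_fac : ∀ (g : R →ₐ[k] k) (e : B →ₐ[k] k), e (spB B g s) ≠ 0 →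
      g r₀ ≠ 0 ∧ g r₁ ≠ 0 ∧ ∀ b ∈ sB, spB B g (S b) ≠ 0 := fun g e h => by
    rw [map_mul, map_mul] at h
    have h1 : g (r₀ * r₁) ≠ 0 := fun h0 => left_ne_zero_of_mul h (by
      rw [apply_spB]
      show g (algebraMap k R (e 1) * (r₀ * r₁)) = 0
      rw [map_one e, map_one, _root_.one_mul, h0])
    rw [map_mul] at h1
    refine ⟨left_ne_zero_of_mul h1, right_ne_zero_of_mul h1, fun b hb h0 => right_ne_zero_of_mul h ?_⟩
    rw [map_prod, map_prod]
    exact Finset.prod_eq_zero hb (by rw [h0, map_zero])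
  have hform : ∀ b : B, ∃ (N : ℕ) (A : B ⊗[k] R), ∀ g : R →ₐ[k] k, ∀ e : B →ₐ[k] k, e (spB B g s) ≠ 0 →
      lam iU L (pt iU g) b * (spB B g s : B) ^ N = (spB B g A : B) := by
    intro b
    have hb : b ∈ Algebra.adjoin k (sB : Set B) := hsB ▸ Algebra.mem_top
    induction hb using Algebra.adjoin_induction with
    | mem b hb =>
      refine ⟨1, (1 ⊗ₜ (r₀ * r₁)) * ((∏ c ∈ sB.erase b, S c) * A b), fun g e h => ?_⟩
      obtain ⟨h0, -, hS⟩ := hs_fac g e h
      obtain ⟨hm', he⟩ := ev_mHom iU (hgood g h0) (b : L)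
      have hne : sp g (bmap B (S b)) ≠ 0 := by
        rw [← coe_spB]; exact fun h' => hS b hb (Subtype.ext h')
      rw [ev_eq _ hne (hAS b)] at he
      rw [pow_one, coe_spB, coe_spB, ← he]
      show sp g _ / sp g _ * sp g (bmap B ((1 ⊗ₜ (r₀ * r₁)) * ∏ c ∈ sB, S c)) = _
      rw [← Finset.prod_erase_mul sB S hb]
      simp only [map_mul]
      field_simp
    | algebraMap c => exact ⟨0, algebraMap k _ c, fun g e _ => by simp [spB]⟩
    | add x y _ _ hx hy =>
      obtain ⟨N, A, hA⟩ := hx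
      obtain ⟨N', A', hA'⟩ := hy
      refine ⟨N + N', A * s ^ N' + A' * s ^ N, fun g e h => ?_⟩
      simp only [map_add, map_mul, map_pow]
      push_cast
      rw [← hA g e h, ← hA' g e h, map_add]
      ring
    | mul x y _ _ hx hy =>
      obtain ⟨N, A, hA⟩ := hx
      obtain ⟨N', A', hA'⟩ := hy
      refine ⟨N + N', A * A', fun g e h => ?_⟩
      simp only [map_mul]
      push_cast
      rw [← hA g e h, ← hA' g e h, map_mul]
      ring
  choose N Af hAf using hform
  have hsP : ∀ᶠ g in Gen k R, spB B g s ∉ P := by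
    filter_upwards [(Filter.eventually_all_finset sB).2 fun b _ => hSP b,
      eventually_ne (k := k) (mul_ne_zero hr₀ hr₁)] with g hg hr
    rw [map_mul, map_prod]
    refine hP.mul_notMem (fun h => hP.ne_top ?_) fun h => ?_
    · refine Ideal.eq_top_of_isUnit_mem P h ?_
      show IsUnit (algebraMap B B 1 * algebraMap k B (g (r₀ * r₁)))
      rw [map_one, _root_.one_mul]
      exact (IsUnit.mk0 _ hr).map (algebraMap k B)
    · obtain ⟨b, hb, hbm⟩ := hP.prod_mem_iff.1 h
      exact hg b hb hbm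
  -- the translate of the denominator
  let σ : L ⊗[k] R →ₐ[k] F := Algebra.TensorProduct.lift (mHom iU L F) (iHom iU L F) (fun _ _ => Commute.all _ _)
  have hσ : ∀ g : R →ₐ[k] k, g r₀ ≠ 0 → g r₁ ≠ 0 → ∀ x, ∃ h : σ x ∈ locAt (L := L) g,
      ev g ⟨σ x, h⟩ = lam iU L (pt iU g) (sp (invPt iU g) x) := by
    intro g h0 h1 x
    induction x using TensorProduct.induction_on with
    | zero =>
      refine ⟨by rw [map_zero]; exact zero_mem _, ?_⟩
      rw [show (⟨σ 0, _⟩ : locAt (L := L) (F := F) g) = 0 from Subtype.ext (map_zero σ)]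
      simp
    | tmul l r =>
      obtain ⟨hl, el⟩ := ev_mHom iU (hgood g h0) l
      obtain ⟨hr, er⟩ := (hinvPt g h1).2 r
      have hmul : σ (l ⊗ₜ r) = mHom iU L F l * iHom iU L F r := Algebra.TensorProduct.lift_tmul _ _ _ _ _
      refine ⟨hmul ▸ mul_mem hl hr, ?_⟩
      rw [show (⟨σ (l ⊗ₜ r), _⟩ : locAt (L := L) (F := F) g) = ⟨_, hl⟩ * ⟨_, hr⟩ from Subtype.ext hmul, map_mul, el, er,
        sp_tmul, map_mul, AlgHom.commutes]
    | add a b ha hb =>
      obtain ⟨ha, ea⟩ := ha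
      obtain ⟨hb, eb⟩ := hb
      refine ⟨by rw [map_add]; exact add_mem ha hb, ?_⟩
      rw [show (⟨σ (a + b), _⟩ : locAt (L := L) (F := F) g) = ⟨_, ha⟩ + ⟨_, hb⟩ from Subtype.ext (map_add σ a b),
        map_add, ea, eb, map_add, map_add]
  have hσval : ∀ᶠ g in Gen k R, g r₀ ≠ 0 ∧ g r₁ ≠ 0 ∧ spB B (invPt iU g) s ∉ P :=
    (eventually_ne hr₀).and ((eventually_ne hr₁).and ((tendsto_chartPt iU iU⁻¹).eventually hsP))
  have hmap1 : ∀ (h : specOver k k ⟶ G) (l : L), V.valuation l = 1 → V.valuation (lam iU L h l) = 1 := by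
    intro h l hl
    have hl0 : l ≠ 0 := fun h0 => zero_ne_one (((map_zero V.valuation).symm.trans (by rw [h0])).trans hl)
    refine le_antisymm ((V.valuation_le_one_iff _).2 ((hinv h l).2 ((V.valuation_le_one_iff _).1 hl.le))) ?_
    have h' := (V.valuation_le_one_iff _).2 ((hinv h l⁻¹).2 ((V.valuation_le_one_iff _).1 (by rw [map_inv₀, hl, inv_one])))
    rwa [map_inv₀, map_inv₀, inv_le_one₀ (zero_lt_iff.2 ((map_ne_zero _).2 ((map_ne_zero _).2 hl0)))] at h'
  have hσmem : σ (bmap B s) ∈ gauss (R := R) V hk := mem_gauss.2 (hσval.mono fun g ⟨h0, h1, hs⟩ => by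
    obtain ⟨h, e⟩ := hσ g h0 h1 (bmap B s)
    refine ⟨h, ?_⟩
    rw [e, ← coe_spB]
    exact (hinv _ _).2 (hBV _ (Subtype.mem _)))
  obtain ⟨A₂, S₂, e₂, hS₂⟩ := hrep _ hσmem
  have hA₂ : ∀ᶠ g in Gen k R, spB B g A₂ ∉ P := by
    filter_upwards [hσval, hS₂] with g ⟨h0, h1, hs⟩ hS hA
    obtain ⟨h, e⟩ := hσ g h0 h1 (bmap B s)
    have hne : sp g (bmap B S₂) ≠ 0 := by
      rw [← coe_spB]; exact fun h' => hS (by rw [show spB B g S₂ = 0 from Subtype.ext h']; exact P.zero_mem)
    rw [ev_eq _ hne e₂, ← coe_spB, ← coe_spB, ← coe_spB] at e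
    have hA1 := (hPmem _).1 hA
    have := congrArg V.valuation e
    rw [map_div₀, hval1 hS, div_one, hmap1 _ _ (hval1 hs)] at this
    exact lt_irrefl _ (this ▸ hA1)
  obtain ⟨g₀, hg₀s, hg₀S, hg₀A⟩ := (hsP.and (hS₂.and hA₂)).exists
  let w : B ⊗[k] R := s * S₂ * A₂
  have hw : spB B g₀ w ∉ P := by
    simp only [w, map_mul]
    exact hP.mul_notMem (hP.mul_notMem hg₀s hg₀S) hg₀A
  obtain ⟨d₀, hd₀⟩ : ∃ d₀ : (B ⧸ P) →ₐ[k] k, d₀ (Ideal.Quotient.mkₐ k P (spB B g₀ w)) ≠ 0 := by
    by_contra! h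
    exact hw (Ideal.Quotient.eq_zero_iff_mem.1 (GeomIrr.eq_zero_of_forall_algHom h))
  let d : B →ₐ[k] k := d₀.comp (Ideal.Quotient.mkₐ k P)
  have hdP : ∀ p ∈ P, d p = 0 := fun p hp => by
    show d₀ (Ideal.Quotient.mk P p) = 0
    rw [Ideal.Quotient.eq_zero_iff_mem.2 hp, map_zero]
  -- one direction
  have key : ∀ (g : R →ₐ[k] k) (e : B →ₐ[k] k), (∀ p ∈ P, e p = 0) → e (spB B g s) ≠ 0 →
      ∃ e' : B →ₐ[k] k, (∀ p ∈ P, e' p = 0) ∧ ∀ l x, Res e' l x → Res e (lam iU L (pt iU g) l) x := by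
    intro g e heP hes
    have hres : ∀ b : B, Res e (lam iU L (pt iU g) b) (e (spB B g (Af b)) / e (spB B g s) ^ N b) := fun b =>
      ⟨spB B g (Af b), spB B g s ^ N b, by rw [map_pow]; exact pow_ne_zero _ hes, by
        rw [SubmonoidClass.coe_pow]; exact hAf b g e hes, by
        rw [map_pow, div_mul_cancel₀ _ (pow_ne_zero _ hes)]⟩
    let e' : B →ₐ[k] k :=
      { toFun := fun b => e (spB B g (Af b)) / e (spB B g s) ^ N b
        map_one' := (hres 1).unique ⟨1, 1, by simp, by simp, by simp⟩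
        map_zero' := (hres 0).unique ⟨0, 1, by simp, by simp, by simp⟩
        map_mul' := fun a b => (hres (a * b)).unique (by
          rw [Subalgebra.coe_mul, map_mul]; exact (hres a).mul (hres b))
        map_add' := fun a b => (hres (a + b)).unique (by
          rw [Subalgebra.coe_add, map_add]; exact (hres a).add (hres b))
        commutes' := fun c => (hres (algebraMap k B c)).unique (by
          rw [Subalgebra.coe_algebraMap, AlgHom.commutes]
          exact ⟨algebraMap k B c, 1, by simp, by simp, by simp⟩) }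
    refine ⟨e', fun p hp => ?_, fun l x ⟨a, c, hc, el, ea⟩ => ?_⟩
    · show e (spB B g (Af p)) / e (spB B g s) ^ N p = 0
      suffices spB B g (Af p) ∈ P by rw [heP _ this, zero_div]
      rw [hPmem, ← hAf p g e hes, map_mul, map_pow]
      refine mul_lt_one_of_lt_of_le ?_ (pow_le_one₀ zero_le ((V.valuation_le_one_iff _).2 (hBV _ (spB B g s).2)))
      rcases eq_or_ne (p : L) 0 with h0 | h0
      · rw [h0, map_zero, map_zero]; exact zero_lt_one
      refine lt_of_le_of_ne ((V.valuation_le_one_iff _).2 ((hinv _ _).2 (hBV _ p.2))) fun h1 => ?_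
      have := hmap1 (pt iU g)⁻¹ _ h1
      rw [lam_inv_lam] at this
      exact ((hPmem p).1 hp).ne this
    · have hl : l = (a : L) * (c : L)⁻¹ := by rw [← el, mul_inv_cancel_right₀ (coe_ne_zero hc)]
      rw [hl, map_mul, map_inv₀]
      have := (hres a).mul ((hres c).inv hc)
      change Res e _ (e' a * (e' c)⁻¹) at this
      rwa [ea, mul_inv_cancel_right₀ hc] at this
  refine ⟨B, P, w, s, d, hft, hfr, hdim, hP, hdP, fun h => hd₀ ?_, fun g hg => ?_, fun b => ⟨N b, Af b, hAf b⟩⟩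
  · show d (spB B g₀ w) = 0
    rw [apply_spB, h, map_zero]
  simp only [w, map_mul, mul_ne_zero_iff] at hg
  rw [← apply_spB, ← apply_spB, ← apply_spB] at hg
  obtain ⟨⟨hs, hS⟩, hA⟩ := hg
  refine ⟨by rwa [← apply_spB], ?_⟩
  obtain ⟨d', hd'P, hd'⟩ := key g d hdP hs
  refine ⟨d', hd'P, fun l x => ⟨hd' l x, fun hx => ?_⟩⟩
  obtain ⟨h0, h1, -⟩ := hs_fac g d hs
  have hs' : d' (spB B (invPt iU g) s) ≠ 0 := fun h0' => by
    obtain ⟨h, e⟩ := hσ g h0 h1 (bmap B s)
    have hne : sp g (bmap B S₂) ≠ 0 := by rw [← coe_spB]; exact coe_ne_zero hS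
    rw [ev_eq _ hne e₂, ← coe_spB, ← coe_spB, ← coe_spB] at e
    have r1 : Res d (lam iU L (pt iU g) (spB B (invPt iU g) s : B)) 0 := by
      rw [← h0']; exact hd' _ _ (res_coe d' _)
    have r2 : Res d (lam iU L (pt iU g) (spB B (invPt iU g) s : B)) (d (spB B g A₂) / d (spB B g S₂)) :=
      ⟨spB B g A₂, spB B g S₂, hS, by rw [← e, div_mul_cancel₀ _ (coe_ne_zero hS)], by rw [div_mul_cancel₀ _ hS]⟩
    exact div_ne_zero hA hS (r2.unique r1)
  obtain ⟨d'', -, hd''⟩ := key (invPt iU g) d' hd'P hs'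
  have hp : pt iU (invPt iU g) = (pt iU g)⁻¹ := (hinvPt g h1).1
  have hdd : d'' = d := AlgHom.ext fun b => by
    have h2 := hd' _ _ (hd'' _ _ (res_coe d'' b))
    rw [hp, lam_lam_inv] at h2
    exact h2.unique (res_coe d b)
  subst hdd
  have := hd'' _ _ hx
  rwa [hp, lam_inv_lam] at this

end Groth.Agent.Chevalley25
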