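import Groth.Agent.Lib.Chevalley25.Gauss
import Groth.Agent.Lib.WeilRes21.Scheme
import Mathlib.AlgebraicGeometry.FunctionField
import Mathlib.AlgebraicGeometry.Morphisms.Separated
import Mathlib.AlgebraicGeometry.Morphisms.UnderlyingMap
import Mathlib.CategoryTheory.Monoidal.Cartesian.Over
import Mathlib.CategoryTheory.Monoidal.Cartesian.Grp

/-!
# Translations of the function field of a group, evaluated at generic points
-/

set_option autoImplicit false
set_option linter.style.haveILetI false
set_option backward.isDefEq.respectTransparency false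
set_option synthInstance.maxHeartbeats 400000

universe u

open CategoryTheory CategoryTheory.Limits MonoidalCategory CartesianMonoidalCategory MonObj AlgebraicGeometry
open TensorProduct Filter
open scoped GrpObj nonZeroDivisors

noncomputable section

namespace Groth.Agent.Chevalley25

open WeilRes21

variable {k : Type u} [Field k] {G : Over (Spec (CommRingCat.of k))}

/-- The morphism to the base point. -/
def toPt (T : Over (Spec (CommRingCat.of k))) : T ⟶ specOver k k :=
  Over.homMk T.hom (by
    show T.hom ≫ Spec.map (CommRingCat.ofHom (algebraMap k k)) = T.hom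
    rw [Algebra.algebraMap_self, CommRingCat.ofHom_id, Spec.map_id, Category.comp_id])

theorem toPt_unique {T : Over (Spec (CommRingCat.of k))} (f g : T ⟶ specOver k k) : f = g := by
  have h : ∀ a : T ⟶ specOver k k, a.left = T.hom := fun a => by
    have := Over.w a
    simp only [Over.mk_hom] at this
    rw [Algebra.algebraMap_self, CommRingCat.ofHom_id, Spec.map_id] at this
    exact (Category.comp_id _).symm.trans this
  exact Over.OverMorphism.ext ((h f).trans (h g).symm)

theorem comp_toPt {T T' : Over (Spec (CommRingCat.of k))} (f : T' ⟶ T) : f ≫ toPt T = toPt T' :=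
  toPt_unique _ _

variable [GrpObj G]

/-- A rational point as a point with values in `T`. -/
def cst (T : Over (Spec (CommRingCat.of k))) (h : specOver k k ⟶ G) : T ⟶ G := toPt T ≫ h

theorem comp_cst {T T' : Over (Spec (CommRingCat.of k))} (f : T' ⟶ T) (h : specOver k k ⟶ G) :
    f ≫ cst T h = cst T' h := by rw [cst, ← Category.assoc, comp_toPt, cst]

theorem cst_mul (T : Over (Spec (CommRingCat.of k))) (g h : specOver k k ⟶ G) :
    cst T (g * h) = cst T g * cst T h := MonObj.comp_mul _ _ _

theorem cst_one (T : Over (Spec (CommRingCat.of k))) : cst T (1 : specOver k k ⟶ G) = 1 := MonObj.comp_one _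

theorem cst_inv (T : Over (Spec (CommRingCat.of k))) (h : specOver k k ⟶ G) : cst T h⁻¹ = (cst T h)⁻¹ :=
  GrpObj.comp_inv _ _

theorem cst_self (h : specOver k k ⟶ G) : cst (specOver k k) h = h := by
  rw [cst, toPt_unique (toPt _) (𝟙 _), Category.id_comp]

theorem cst_ofId (C : Type u) [CommRing C] [Algebra k C] (h : specOver k k ⟶ G) :
    specMap (Algebra.ofId k C) ≫ h = cst (specOver k C) h := by
  rw [cst, toPt_unique (toPt _) (specMap (Algebra.ofId k C))]

/-- Translation by a rational point. -/
def tau (h : specOver k k ⟶ G) : G ⟶ G := cst G h * 𝟙 G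

theorem comp_tau {T : Over (Spec (CommRingCat.of k))} (x : T ⟶ G) (h : specOver k k ⟶ G) :
    x ≫ tau h = cst T h * x := by rw [tau, MonObj.comp_mul, comp_cst, Category.comp_id]

instance isIso_tau (h : specOver k k ⟶ G) : IsIso (tau h) :=
  ⟨tau h⁻¹, by rw [comp_tau, tau, cst_inv, inv_mul_cancel_left],
    by rw [comp_tau, tau, cst_inv, mul_inv_cancel_left]⟩

instance isIso_tau_left (h : specOver k k ⟶ G) : IsIso (tau h).left :=
  inferInstanceAs (IsIso ((Over.forget _).map (tau h)))

section Chart

variable [AlgebraicGeometry.IsIntegral G.left] {R : Type u} [CommRing R] [IsDomain R] [Algebra k R]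
  (iU : specOver k R ⟶ G) [IsOpenImmersion iU.left]

omit [GrpObj G] in
theorem chart_bot (φ : specOver k R ⟶ G) [IsOpenImmersion φ.left] :
    φ.left (⊥ : PrimeSpectrum R) = genericPoint G.left := by
  haveI : IrreducibleSpace (specOver k R).left := inferInstanceAs (IrreducibleSpace (PrimeSpectrum R))
  rw [← genericPoint_eq_of_isOpenImmersion φ.left]
  congr 1
  exact (genericPoint_eq_bot_of_affine (CommRingCat.of R)).symm

omit [GrpObj G] [AlgebraicGeometry.IsIntegral G.left] [IsDomain R] in
/-- A field point landing in the chart factors through it. -/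
theorem exists_factor {M : Type u} [Field M] [Algebra k M] (m : specOver k M ⟶ G) (x : PrimeSpectrum R)
    (hm : m.left (IsLocalRing.closedPoint M) = iU.left x) :
    ∃ e : R →ₐ[k] M, specMap e ≫ iU = m ∧ RingHom.ker e.toRingHom = x.asIdeal := by
  have hr : Set.range m.left ⊆ Set.range iU.left := by
    rintro _ ⟨P, rfl⟩
    haveI : Subsingleton (specOver k M).left := inferInstanceAs (Subsingleton (PrimeSpectrum M))
    exact ⟨x, by rw [Subsingleton.elim P (IsLocalRing.closedPoint M), hm]⟩
  let g : specOver k M ⟶ specOver k R := Over.homMk (IsOpenImmersion.lift iU.left m.left hr) (by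
    rw [← Over.w iU, IsOpenImmersion.lift_fac_assoc]
    exact Over.w m)
  have hgm : g ≫ iU = m := Over.OverMorphism.ext (IsOpenImmersion.lift_fac _ _ hr)
  have h2 : specMap (algHomEquiv g) = g := algHomEquiv.symm_apply_apply g
  refine ⟨algHomEquiv g, by rw [h2, hgm], ?_⟩
  have hpt : g.left (IsLocalRing.closedPoint M) = x := by
    refine iU.left.isOpenEmbedding.injective ?_
    rw [← hm, ← hgm]
    rfl
  rw [← h2] at hpt
  have h4 : (IsLocalRing.maximalIdeal M).comap (algHomEquiv g).toRingHom = x.asIdeal :=
    congrArg PrimeSpectrum.asIdeal hpt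
  rwa [IsLocalRing.maximalIdeal_eq_bot] at h4

omit [GrpObj G] [AlgebraicGeometry.IsIntegral G.left] [IsDomain R] in
theorem chart_injective {C : Type u} [CommRing C] [Algebra k C] {e e' : R →ₐ[k] C}
    (h : specMap e ≫ iU = specMap e' ≫ iU) : e = e' := by
  haveI : Mono iU := Over.mono_of_mono_left _
  exact algHomEquiv.symm.injective ((cancel_mono iU).1 h)

/-- The chart coordinates of the image of a rational point of the chart. -/
def chartPt (φ : specOver k R ⟶ G) (g : R →ₐ[k] k) : R →ₐ[k] k := by
  classical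
  exact if h : ∃ g' : R →ₐ[k] k, specMap g' ≫ iU = specMap g ≫ φ then h.choose else g

omit [GrpObj G] in
theorem eventually_chartPt (φ : specOver k R ⟶ G) [IsOpenImmersion φ.left] {r : R} (hr : r ≠ 0) :
    ∀ᶠ g in Gen k R, specMap (chartPt iU φ g) ≫ iU = specMap g ≫ φ ∧ chartPt iU φ g r ≠ 0 := by
  classical
  let O : Set G.left := iU.left '' (PrimeSpectrum.basicOpen r : Set (PrimeSpectrum R))
  have hO : IsOpen O := iU.left.isOpenEmbedding.isOpenMap _ (PrimeSpectrum.basicOpen r).2
  have hbot : (⊥ : PrimeSpectrum R) ∈ φ.left ⁻¹' O := by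
    refine ⟨(⊥ : PrimeSpectrum R), fun h => hr (Ideal.mem_bot.1 h), ?_⟩
    rw [chart_bot iU, chart_bot φ]
  obtain ⟨_, ⟨r', rfl⟩, hr'm, hr'sub⟩ := PrimeSpectrum.isTopologicalBasis_basic_opens.exists_subset_of_mem_open hbot
    (hO.preimage φ.left.continuous)
  refine (eventually_ne (r := (r' : R)) fun h => hr'm (Ideal.mem_bot.2 h)).mono fun g hg => ?_
  obtain ⟨x, hx, hxe⟩ := hr'sub (show (specMap g).left (IsLocalRing.closedPoint k) ∈ PrimeSpectrum.basicOpen r' from
    fun h => hg (by
      have h' : g r' ∈ IsLocalRing.maximalIdeal k := h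
      rwa [IsLocalRing.maximalIdeal_eq_bot, Ideal.mem_bot] at h'))
  obtain ⟨g', hg', hker⟩ := exists_factor iU (specMap g ≫ φ) x (by rw [hxe]; rfl)
  have hex : ∃ g' : R →ₐ[k] k, specMap g' ≫ iU = specMap g ≫ φ := ⟨g', hg'⟩
  have he : chartPt iU φ g = hex.choose := dif_pos hex
  rw [he]
  refine ⟨hex.choose_spec, ?_⟩
  rw [chart_injective iU (hex.choose_spec.trans hg'.symm)]
  exact fun h => hx (hker ▸ (h : g' r = 0))

omit [GrpObj G] in
theorem eventually_chartPt_spec (φ : specOver k R ⟶ G) [IsOpenImmersion φ.left] :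
    ∀ᶠ g in Gen k R, specMap (chartPt iU φ g) ≫ iU = specMap g ≫ φ :=
  (eventually_chartPt iU φ one_ne_zero).mono fun _ h => h.1

omit [GrpObj G] in
theorem tendsto_chartPt (φ : specOver k R ⟶ G) [IsOpenImmersion φ.left] :
    Tendsto (chartPt iU φ) (Gen k R) (Gen k R) := by
  intro S hS
  obtain ⟨r, hr, h⟩ := hS
  exact (eventually_chartPt iU φ hr).mono fun g hg => h _ hg.2

/-- The inversion in chart coordinates. -/
abbrev invPt : (R →ₐ[k] k) → (R →ₐ[k] k) := chartPt iU iU⁻¹

omit [IsDomain R] [AlgebraicGeometry.IsIntegral G.left] in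
instance isOpenImmersion_inv : IsOpenImmersion (iU⁻¹).left := by
  haveI : IsIso (ι[G] : G ⟶ G) := ⟨ι[G], by simp, by simp⟩
  haveI : IsIso (ι[G] : G ⟶ G).left := inferInstanceAs (IsIso ((Over.forget _).map (ι[G] : G ⟶ G)))
  rw [Hom.inv_def, Over.comp_left]
  infer_instance

omit [IsDomain R] [AlgebraicGeometry.IsIntegral G.left] in
instance isOpenImmersion_tau (h : specOver k k ⟶ G) : IsOpenImmersion (iU ≫ tau h).left := by
  rw [Over.comp_left]; infer_instance

end Chart

section Field

variable [AlgebraicGeometry.IsIntegral G.left] {R : Type u} [CommRing R] [IsDomain R] [Algebra k R]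
  (iU : specOver k R ⟶ G) [IsOpenImmersion iU.left]
  {L : Type u} [Field L] [Algebra k L] [Algebra R L] [IsScalarTower k R L] [IsFractionRing R L]

variable (L) in
/-- The generic point with values in the function field. -/
def gen : specOver k L ⟶ G := specMap (IsScalarTower.toAlgHom k R L) ≫ iU

omit [GrpObj G] in
theorem gen_apply : (gen iU L).left (IsLocalRing.closedPoint L) = genericPoint G.left := by
  rw [← chart_bot iU]
  show iU.left _ = _
  congr 1
  apply PrimeSpectrum.ext
  show (IsLocalRing.maximalIdeal L).comap (algebraMap R L) = ⊥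
  rw [IsLocalRing.maximalIdeal_eq_bot]
  exact (RingHom.injective_iff_ker_eq_bot _).1 (IsFractionRing.injective R L)

omit [GrpObj G] [AlgebraicGeometry.IsIntegral G.left] [IsDomain R] in
theorem gen_injective {M : Type u} [Field M] [Algebra k M] {φ ψ : L →ₐ[k] M}
    (h : specMap φ ≫ gen iU L = specMap ψ ≫ gen iU L) : φ = ψ := by
  rw [gen, ← Category.assoc, ← Category.assoc, specMap_comp, specMap_comp] at h
  have := chart_injective iU h
  apply AlgHom.coe_ringHom_injective
  exact IsLocalization.ringHom_ext R⁰ (congrArg (fun a : R →ₐ[k] M => a.toRingHom) this)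

omit [GrpObj G] in
theorem exists_gen_lift {M : Type u} [Field M] [Algebra k M] (m : specOver k M ⟶ G)
    (hm : m.left (IsLocalRing.closedPoint M) = genericPoint G.left) :
    ∃ φ : L →ₐ[k] M, specMap φ ≫ gen iU L = m := by
  obtain ⟨e, he, hker⟩ := exists_factor iU m ⊥ (hm.trans (chart_bot iU).symm)
  have hinj : Function.Injective e := (RingHom.injective_iff_ker_eq_bot e.toRingHom).2 hker
  refine ⟨IsFractionRing.liftAlgHom hinj, ?_⟩
  rw [gen, ← Category.assoc, specMap_comp]
  convert he using 3
  ext r
  exact IsFractionRing.lift_algebraMap hinj r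

theorem exists_lam (h : specOver k k ⟶ G) :
    ∃ φ : L →ₐ[k] L, specMap φ ≫ gen iU L = cst (specOver k L) h * gen iU L := by
  refine exists_gen_lift iU _ ?_
  rw [← comp_tau]
  show (tau h).left ((gen iU L).left _) = _
  rw [gen_apply]
  exact genericPoint_eq_of_isOpenImmersion (tau h).left

variable (L) in
/-- Translation of rational functions by a rational point. -/
def lam (h : specOver k k ⟶ G) : L →ₐ[k] L := (exists_lam iU h).choose

theorem lam_spec (h : specOver k k ⟶ G) :
    specMap (lam iU L h) ≫ gen iU L = cst (specOver k L) h * gen iU L := (exists_lam iU h).choose_spec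

theorem lam_mul (h g : specOver k k ⟶ G) : lam iU L (h * g) = (lam iU L g).comp (lam iU L h) :=
  gen_injective iU (by
    rw [lam_spec, ← specMap_comp, Category.assoc, lam_spec, MonObj.comp_mul, comp_cst, lam_spec,
      cst_mul, _root_.mul_assoc])

theorem lam_one : lam iU L (1 : specOver k k ⟶ G) = AlgHom.id k L :=
  gen_injective iU (by rw [lam_spec, cst_one, _root_.one_mul, specMap_id, Category.id_comp])

theorem lam_inv_lam (h : specOver k k ⟶ G) (x : L) : lam iU L h⁻¹ (lam iU L h x) = x := by
  rw [← AlgHom.comp_apply, ← lam_mul, mul_inv_cancel, lam_one, AlgHom.id_apply]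

theorem lam_lam_inv (h : specOver k k ⟶ G) (x : L) : lam iU L h (lam iU L h⁻¹ x) = x := by
  rw [← AlgHom.comp_apply, ← lam_mul, inv_mul_cancel, lam_one, AlgHom.id_apply]

/-! ### The generic translate -/

variable [IsAlgClosed k] [Algebra.FiniteType k R] [IsSeparated G.hom]
  {F : Type u} [Field F] [Algebra (L ⊗[k] R) F] [IsFractionRing (L ⊗[k] R) F]
  [Algebra L F] [IsScalarTower L (L ⊗[k] R) F] [Algebra k F] [IsScalarTower k L F]

/-- The rational point of the chart. -/
abbrev pt (g : R →ₐ[k] k) : specOver k k ⟶ G := specMap g ≫ iU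

variable (F) in
/-- The local ring at a rational point, over the ground field. -/
abbrev loc (g : R →ₐ[k] k) : Subalgebra k F := (locAt (L := L) g).restrictScalars k

/-- Evaluation at a rational point, over the ground field. -/
abbrev evk (g : R →ₐ[k] k) : loc (L := L) F g →ₐ[k] L := (ev g).restrictScalars k

/-- The first projection. -/
def fstHom (g : R →ₐ[k] k) : R →ₐ[k] loc (L := L) F g where
  toFun r := ⟨algebraMap (L ⊗[k] R) F (1 ⊗ₜ r), algebraMap_mem_locAt g _⟩
  map_one' := Subtype.ext (map_one _)
  map_zero' := Subtype.ext (by simp)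
  map_mul' r r' := Subtype.ext (by
    show algebraMap _ F _ = algebraMap _ F _ * algebraMap _ F _
    rw [← map_mul]; simp)
  map_add' r r' := Subtype.ext (by
    show algebraMap _ F _ = algebraMap _ F _ + algebraMap _ F _
    rw [← map_add, TensorProduct.tmul_add])
  commutes' c := Subtype.ext (by
    show algebraMap (L ⊗[k] R) F (1 ⊗ₜ algebraMap k R c) = algebraMap k F c
    rw [IsScalarTower.algebraMap_apply k L F, IsScalarTower.algebraMap_apply L (L ⊗[k] R) F]
    congr 1
    rw [Algebra.TensorProduct.algebraMap_apply, Algebra.algebraMap_eq_smul_one, TensorProduct.tmul_smul,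
      TensorProduct.smul_tmul', ← Algebra.algebraMap_eq_smul_one, Algebra.algebraMap_self_apply])

omit [IsAlgClosed k] [Algebra.FiniteType k R] [IsFractionRing (L ⊗[k] R) F] [IsDomain R]
  [Algebra R L] [IsScalarTower k R L] [IsFractionRing R L] in
theorem fstHom_coe (g : R →ₐ[k] k) (r : R) :
    (fstHom (L := L) (F := F) g r : F) = algebraMap (L ⊗[k] R) F (1 ⊗ₜ r) := rfl

/-- The second projection. -/
def sndHom (g : R →ₐ[k] k) : L →ₐ[k] loc (L := L) F g where
  toFun l := ⟨algebraMap L F l, (locAt (L := L) (F := F) g).algebraMap_mem l⟩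
  map_one' := Subtype.ext (map_one _)
  map_zero' := Subtype.ext (map_zero _)
  map_mul' l l' := Subtype.ext (map_mul _ l l')
  map_add' l l' := Subtype.ext (map_add _ l l')
  commutes' c := Subtype.ext (IsScalarTower.algebraMap_apply k L F c).symm

/-- The product of the two projections, on the local ring at a rational point. -/
def prodPt (g : R →ₐ[k] k) : specOver k (loc (L := L) F g) ⟶ G :=
  (specMap (fstHom (L := L) (F := F) g) ≫ iU) * (specMap (sndHom (L := L) (F := F) g) ≫ gen iU L)

theorem evk_prodPt (g : R →ₐ[k] k) :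
    specMap (evk (L := L) (F := F) g) ≫ prodPt (L := L) (F := F) iU g = cst (specOver k L) (pt iU g) * gen iU L := by
  rw [prodPt, MonObj.comp_mul, ← Category.assoc, ← Category.assoc, specMap_comp, specMap_comp]
  congr 1
  · rw [show (evk (L := L) (F := F) g).comp (fstHom g) = (Algebra.ofId k L).comp g from AlgHom.ext fun r => by
        show ev g _ = algebraMap k L (g r)
        exact (ev_algebraMap g _).trans (sp_one_tmul g r),
      ← specMap_comp, Category.assoc, cst_ofId]
  · rw [show (evk (L := L) (F := F) g).comp (sndHom (L := L) (F := F) g) = AlgHom.id k L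
      from AlgHom.ext fun l => (ev (F := F) g).commutes l, specMap_id, Category.id_comp]

variable (L F) in
/-- The product of the two projections. -/
def prodF : specOver k F ⟶ G :=
  (specMap ((IsScalarTower.toAlgHom L (L ⊗[k] R) F).restrictScalars k |>.comp Algebra.TensorProduct.includeRight) ≫ iU) *
    (specMap (IsScalarTower.toAlgHom k L F) ≫ gen iU L)

theorem val_prodPt (g : R →ₐ[k] k) : specMap (loc (L := L) F g).val ≫ prodPt (L := L) (F := F) iU g = prodF iU L F := by
  rw [prodPt, MonObj.comp_mul, ← Category.assoc, ← Category.assoc, specMap_comp, specMap_comp, prodF]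
  congr 3

omit [IsAlgClosed k] [Algebra.FiniteType k R] [IsFractionRing (L ⊗[k] R) F] [IsDomain R]
  [Algebra R L] [IsScalarTower k R L] [IsFractionRing R L] in
theorem val_apply (g : R →ₐ[k] k) :
    (specMap (loc (L := L) F g).val).left (IsLocalRing.closedPoint F) = (⊥ : PrimeSpectrum (loc (L := L) F g)) := by
  apply PrimeSpectrum.ext
  show (IsLocalRing.maximalIdeal F).comap (loc (L := L) F g).val.toRingHom = ⊥
  rw [IsLocalRing.maximalIdeal_eq_bot]
  exact (RingHom.injective_iff_ker_eq_bot _).1 Subtype.val_injective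

theorem exists_mHom : ∃ φ : L →ₐ[k] F, specMap φ ≫ gen iU L = prodF iU L F := by
  refine exists_gen_lift iU _ ?_
  obtain ⟨g⟩ : Nonempty (R →ₐ[k] k) := ⟨((eventually_ne (k := k) (one_ne_zero (α := R))).exists).choose⟩
  rw [← val_prodPt (L := L) (F := F) iU g]
  show (prodPt (L := L) (F := F) iU g).left ((specMap (loc (L := L) F g).val).left _) = _
  rw [val_apply]
  have hcl : (prodPt (L := L) (F := F) iU g).left ((specMap (evk (L := L) (F := F) g)).left (IsLocalRing.closedPoint L)) =
      genericPoint G.left := by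
    show (specMap (evk (L := L) (F := F) g) ≫ prodPt (L := L) (F := F) iU g).left (IsLocalRing.closedPoint L) = _
    rw [evk_prodPt, ← comp_tau]
    show (tau _).left ((gen iU L).left _) = _
    rw [gen_apply]
    exact genericPoint_eq_of_isOpenImmersion (tau _).left
  have hs : (⊥ : PrimeSpectrum (loc (L := L) F g)) ⤳ (specMap (evk (L := L) (F := F) g)).left (IsLocalRing.closedPoint L) :=
    (PrimeSpectrum.le_iff_specializes ⊥ _).1 bot_le
  have h := (hs.map (prodPt (L := L) (F := F) iU g).left.continuous)
  rw [hcl] at h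
  exact (h.antisymm (genericPoint_specializes _)).eq

variable (L F) in
/-- The generic translate of a rational function. -/
def mHom : L →ₐ[k] F := (exists_mHom (L := L) (F := F) iU).choose

theorem mHom_spec : specMap (mHom iU L F) ≫ gen iU L = prodF iU L F := (exists_mHom (L := L) (F := F) iU).choose_spec

variable (L F) in
/-- The points at which the generic translate and the generic inverse are defined. -/
def GoodPt (g : R →ₐ[k] k) : Prop := ∀ r : R, mHom iU L F (algebraMap R L r) ∈ locAt (L := L) g

theorem exists_goodPt : ∃ r₀ : R, r₀ ≠ 0 ∧ ∀ g : R →ₐ[k] k, g r₀ ≠ 0 → GoodPt iU L F g := by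
  obtain ⟨s, hs⟩ := (‹Algebra.FiniteType k R›).out
  have h : ∀ᶠ g in Gen k R, ∀ r ∈ s, mHom iU L F (algebraMap R L r) ∈ locAt (L := L) g :=
    (Filter.eventually_all_finset s).2 fun r _ => eventually_mem _
  obtain ⟨r₀, hr₀, h₀⟩ := eventually_gen_iff.1 h
  refine ⟨r₀, hr₀, fun g hg r => ?_⟩
  let S : Subalgebra k R := (loc (L := L) F g).comap ((mHom iU L F).comp (IsScalarTower.toAlgHom k R L))
  have hS : S = ⊤ := top_le_iff.1 (hs ▸ Algebra.adjoin_le fun x hx => h₀ g hg x hx)
  exact (show r ∈ S from hS ▸ Algebra.mem_top)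

theorem eventually_goodPt : ∀ᶠ g in Gen k R, GoodPt iU L F g := by
  obtain ⟨r₀, hr₀, h⟩ := exists_goodPt (L := L) (F := F) iU
  exact eventually_gen_iff.2 ⟨r₀, hr₀, h⟩

/-- At a good point the generic translate evaluates to the translate. -/
theorem ev_mHom {g : R →ₐ[k] k} (hg : GoodPt iU L F g) (l : L) :
    ∃ h : mHom iU L F l ∈ locAt (L := L) g, ev g ⟨mHom iU L F l, h⟩ = lam iU L (pt iU g) l := by
  let e : R →ₐ[k] loc (L := L) F g :=
    ((mHom iU L F).comp (IsScalarTower.toAlgHom k R L)).codRestrict _ hg
  have he : specMap e ≫ iU = prodPt iU g := by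
    apply Over.OverMorphism.ext
    haveI : IsReduced (specOver k (loc (L := L) F g)).left := inferInstanceAs (IsReduced (Spec _))
    haveI : IsDominant (specMap (loc (L := L) F g).val).left := by
      refine ⟨?_⟩
      show DenseRange (PrimeSpectrum.comap (loc (L := L) F g).val.toRingHom)
      rw [PrimeSpectrum.denseRange_comap_iff_ker_le_nilRadical,
        (RingHom.injective_iff_ker_eq_bot _).1 Subtype.val_injective]
      exact bot_le
    refine ext_of_isDominant_of_isSeparated G.hom (by rw [Over.w, Over.w]) (specMap (loc (L := L) F g).val).left ?_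
    rw [← Over.comp_left, ← Over.comp_left, val_prodPt, ← mHom_spec, gen, ← Category.assoc, ← Category.assoc,
      specMap_comp, specMap_comp]
    rfl
  have hev : (evk (L := L) (F := F) g).comp e = (lam iU L (pt iU g)).comp (IsScalarTower.toAlgHom k R L) := by
    apply chart_injective iU
    rw [← specMap_comp, Category.assoc, he, evk_prodPt, ← lam_spec, gen, ← Category.assoc, specMap_comp]
  obtain ⟨a, b, hb, rfl⟩ := IsFractionRing.div_surjective R l
  have hb0 : algebraMap R L b ≠ 0 := fun h => nonZeroDivisors.ne_zero hb ((IsFractionRing.injective R L) (h.trans (map_zero _).symm))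
  have hv : ev g ⟨mHom iU L F (algebraMap R L b), hg b⟩ = lam iU L (pt iU g) (algebraMap R L b) := AlgHom.congr_fun hev b
  obtain ⟨hi, hie⟩ := inv_mem_locAt (⟨mHom iU L F (algebraMap R L b), hg b⟩ : locAt (L := L) (F := F) g)
    (hv ▸ (map_ne_zero _).2 hb0)
  have hm : mHom iU L F (algebraMap R L a / algebraMap R L b) =
      mHom iU L F (algebraMap R L a) * (mHom iU L F (algebraMap R L b))⁻¹ := by rw [map_div₀, div_eq_mul_inv]
  refine ⟨hm ▸ mul_mem (hg a) hi, ?_⟩
  have e2 : (⟨mHom iU L F (algebraMap R L a / algebraMap R L b), hm ▸ mul_mem (hg a) hi⟩ : locAt (L := L) (F := F) g) =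
      ⟨_, hg a⟩ * ⟨_, hi⟩ := Subtype.ext hm
  rw [e2, map_mul, hie, hv, map_div₀, div_eq_mul_inv]
  congr 1
  exact AlgHom.congr_fun hev a

/-! ### Inversion -/

variable (L F) in
/-- The inverse of the first projection. -/
def invF : specOver k F ⟶ G :=
  specMap ((IsScalarTower.toAlgHom L (L ⊗[k] R) F).restrictScalars k |>.comp Algebra.TensorProduct.includeRight) ≫ iU⁻¹

omit [IsAlgClosed k] [Algebra.FiniteType k R] [IsSeparated G.hom] [Algebra R L] [IsScalarTower k R L]
  [IsFractionRing R L] in
theorem exists_iHom : ∃ e : R →ₐ[k] F, Function.Injective e ∧ specMap e ≫ iU = invF iU L F := by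
  haveI : Nontrivial (L ⊗[k] R) := (algebraMap (L ⊗[k] R) F).domain_nontrivial
  have hinc : Function.Injective
      ((IsScalarTower.toAlgHom L (L ⊗[k] R) F).restrictScalars k |>.comp Algebra.TensorProduct.includeRight) :=
    (IsFractionRing.injective (L ⊗[k] R) F).comp
      (Algebra.TensorProduct.includeRight_injective (algebraMap k L).injective)
  obtain ⟨e, he, hker⟩ := exists_factor iU (invF iU L F) ⊥ (by
    rw [chart_bot iU, ← chart_bot iU⁻¹]
    show (iU⁻¹).left _ = _
    congr 1
    apply PrimeSpectrum.ext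
    show (IsLocalRing.maximalIdeal F).comap _ = ⊥
    rw [IsLocalRing.maximalIdeal_eq_bot]
    exact (RingHom.injective_iff_ker_eq_bot _).1 hinc)
  exact ⟨e, (RingHom.injective_iff_ker_eq_bot e.toRingHom).2 hker, he⟩

variable (L F) in
/-- The coordinates of the inverse. -/
def iHom : R →ₐ[k] F := (exists_iHom (L := L) (F := F) iU).choose

omit [Algebra R L] [IsScalarTower k R L] [IsFractionRing R L] in
/-- At a good point the inverse coordinates evaluate to the coordinates of the inverse. -/
theorem ev_iHom : ∃ r₁ : R, r₁ ≠ 0 ∧ ∀ g : R →ₐ[k] k, g r₁ ≠ 0 →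
    pt iU (invPt iU g) = (pt iU g)⁻¹ ∧
      ∀ r, ∃ h : iHom iU L F r ∈ locAt (L := L) g,
        ev g ⟨iHom iU L F r, h⟩ = algebraMap k L (invPt iU g r) := by
  obtain ⟨s, hs⟩ := (‹Algebra.FiniteType k R›).out
  have h : ∀ᶠ g in Gen k R, (specMap (invPt iU g) ≫ iU = specMap g ≫ iU⁻¹) ∧
      ∀ r ∈ s, iHom iU L F r ∈ locAt (L := L) g :=
    (eventually_chartPt_spec iU iU⁻¹).and ((Filter.eventually_all_finset s).2 fun r _ => eventually_mem _)
  obtain ⟨r₁, hr₁, h₁⟩ := eventually_gen_iff.1 h
  refine ⟨r₁, hr₁, fun g hg => ?_⟩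
  obtain ⟨hc, hgen⟩ := h₁ g hg
  have hinv : pt iU (invPt iU g) = (pt iU g)⁻¹ := by
    rw [pt, hc, GrpObj.comp_inv]
  refine ⟨hinv, ?_⟩
  have hmem : ∀ r, iHom iU L F r ∈ loc (L := L) F g := fun r => by
    let S : Subalgebra k R := (loc (L := L) F g).comap (iHom iU L F)
    have hS : S = ⊤ := top_le_iff.1 (hs ▸ Algebra.adjoin_le fun x hx => hgen x hx)
    exact (show r ∈ S from hS ▸ Algebra.mem_top)
  let e : R →ₐ[k] loc (L := L) F g := (iHom iU L F).codRestrict _ hmem
  have he : specMap e ≫ iU = specMap (fstHom (L := L) (F := F) g) ≫ iU⁻¹ := by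
    apply Over.OverMorphism.ext
    haveI : IsReduced (specOver k (loc (L := L) F g)).left := inferInstanceAs (IsReduced (Spec _))
    haveI : IsDominant (specMap (loc (L := L) F g).val).left := by
      refine ⟨?_⟩
      show DenseRange (PrimeSpectrum.comap (loc (L := L) F g).val.toRingHom)
      rw [PrimeSpectrum.denseRange_comap_iff_ker_le_nilRadical,
        (RingHom.injective_iff_ker_eq_bot _).1 Subtype.val_injective]
      exact bot_le
    refine ext_of_isDominant_of_isSeparated G.hom (by rw [Over.w, Over.w]) (specMap (loc (L := L) F g).val).left ?_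
    rw [← Over.comp_left, ← Over.comp_left, ← Category.assoc, ← Category.assoc, specMap_comp, specMap_comp]
    exact congrArg CommaMorphism.left (exists_iHom (L := L) (F := F) iU).choose_spec.2
  have hev : (evk (L := L) (F := F) g).comp e = (Algebra.ofId k L).comp (invPt iU g) := by
    apply chart_injective iU
    rw [← specMap_comp, Category.assoc, he, ← Category.assoc, specMap_comp,
      show (evk (L := L) (F := F) g).comp (fstHom g) = (Algebra.ofId k L).comp g from AlgHom.ext fun r => by
        show ev g _ = algebraMap k L (g r)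
        exact (ev_algebraMap g _).trans (sp_one_tmul g r),
      ← specMap_comp, Category.assoc, ← hc, ← Category.assoc, specMap_comp]
  exact fun r => ⟨hmem r, AlgHom.congr_fun hev r⟩

end Field

end Groth.Agent.Chevalley25
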